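import Groth.Agent.H8.CurveSpace.Reduced
import Groth.Agent.Lib.AlgSpDecent.GeomRedFibre
import Groth.Agent.Lib.AlgSpGeomCount.Upper
import Groth.Agent.S10670
import Groth.Agent.S10684
import Groth.Agent.H46.GeomSpread.Fibre

/-!
# The locus of connected geometrically reduced fibres of a family of curves is open
-/

set_option autoImplicit false
set_option linter.style.haveILetI false
set_option backward.isDefEq.respectTransparency false
set_option backward.isDefEq.respectTransparency.types false

universe u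

open CategoryTheory CategoryTheory.Limits AlgebraicGeometry
open Groth.Agent.Lib.AlgSpace Groth.Agent.Lib.AlgSpMor

namespace Groth.Agent.H8.CurveSpace

open AlgSp (Sp yon RepWith IsAlgSpace LocP Points FieldPt)
open AlgSp
open Groth.Agent.Lib.StCurv (PtCond Tame)

variable {S : Scheme.{u}} {n : ℕ}

/-- A chart of a family pulls back to a chart of a pulled back family. -/
theorem exists_chart_pullback {A B : CurvSt.SpFamObj S n} (φ : B ⟶ A) {U : Over S}
    {a : (yon S).obj U ⟶ A.X} {h : U ⟶ A.base} (ha : RepWith @Etale a) (has : RepWith @Surjective a)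
    (w : a ≫ A.f = (yon S).map h) :
    ∃ (W : Over S) (a' : (yon S).obj W ⟶ B.X) (v : W ⟶ B.base) (p : W ⟶ U),
      RepWith @Etale a' ∧ RepWith @Surjective a' ∧ a' ≫ B.f = (yon S).map v ∧
      IsPullback p.left v.left h.left φ.base.left := by
  let W := Limits.pullback h φ.base
  let a' : (yon S).obj W ⟶ B.X := φ.cart.lift ((yon S).map (pullback.fst h φ.base) ≫ a)
    ((yon S).map (pullback.snd h φ.base)) (by
      rw [Category.assoc, w, ← Functor.map_comp, ← Functor.map_comp, pullback.condition])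
  have w' : a' ≫ B.f = (yon S).map (pullback.snd h φ.base) := φ.cart.lift_snd _ _ _
  have sqa : IsPullback ((yon S).map (pullback.fst h φ.base)) a' a φ.top := by
    refine IsPullback.of_bot (h₁₁ := (yon S).map (pullback.fst h φ.base)) ?_ (φ.cart.lift_fst _ _ _).symm
      φ.cart
    rw [w', w]
    exact isPullback_yon (IsPullback.of_hasPullback h φ.base)
  exact ⟨W, a', pullback.snd h φ.base, pullback.fst h φ.base, repWith_baseChange sqa ha,
    repWith_baseChange sqa has, w', (IsPullback.of_hasPullback h φ.base).map (Over.forget S)⟩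

/-- A condition holding on the pulled back chart holds over the image of the base. -/
theorem forall_over_of_pullback {R : PtCond.{u}} (hR : R.Good) {X X' Y Y' : Scheme.{u}} {p : X' ⟶ X}
    {v : X' ⟶ Y'} {h : X ⟶ Y} {g : Y' ⟶ Y} (sq : IsPullback p v h g) (ht : Tame h)
    (H : ∀ z, R v z) (t' : Y') (u : X) (hu : h u = g t') : R h u := by
  obtain ⟨z, hz₁, -⟩ := Scheme.Pullback.exists_preimage_pullback (f := h) (g := g) u t' hu
  have h1 : p (sq.isoPullback.inv z) = u := by
    rw [← Scheme.Hom.comp_apply, sq.isoPullback_inv_fst, hz₁]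
  exact h1 ▸ (hR.bc sq ht _).1 (H _)

/-- Geometrically reduced fibres of the chart give reduced fibres of the space. -/
theorem goodFibre_of_grCond {A : CurvSt.SpFamObj S n} (hA : CurvSt.IsCurveFam A) {U : Over S}
    {a : (yon S).obj U ⟶ A.X} {h : U ⟶ A.base} (ha : RepWith @Etale a) (has : RepWith @Surjective a)
    (w : a ≫ A.f = (yon S).map h) (s : A.base.left) (hs : ∀ u, h.left u = s → grCond h.left u) :
    Groth.Agent.Lib.AlgSpDecent.GeomRedFibre.GoodFibre A.f (Points.schemeHomeo A.base s) := by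
  rw [Groth.Agent.Lib.AlgSpDecent.GeomRedFibre.goodFibre_iff hA.1 (IsAlgSpace.yon_obj _)]
  intro x hx
  obtain ⟨u, rfl⟩ := Groth.Agent.Lib.AlgSpDecent.Core.surjective_ofPt has x
  refine (Groth.Agent.Lib.AlgSpDecent.GeomRedFibre.good_iff hA.1 (IsAlgSpace.yon_obj _) ha
    (AlgSp.repWith_id _ _) (b := 𝟙 _) (h := h) (by rw [Category.comp_id, w]) u).2 ?_
  refine (Groth.Agent.H46.GRAt.grAt_iff h.left u).1 (hs u ((Points.schemeHomeo A.base).injective ?_))
  rw [← hx, Points.map_ofPt, w, ← Points.map_yon_map_apply, Points.ofPt_eq_map_ofScheme]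
  rfl

/-- The closed point of the algebraic closure of a residue field. -/
theorem resPt_apply {T : Scheme.{u}} (s : T) {Ω : Type u} [Field Ω] (φ : T.residueField s →+* Ω) :
    (Spec.map (CommRingCat.ofHom φ) ≫ T.fromSpecResidueField s) (IsLocalRing.closedPoint Ω) = s := by
  rw [Scheme.Hom.comp_apply]
  exact Scheme.fromSpecResidueField_apply (X := T) s _

theorem mk_ofHom_yon {T : Over S} {Ω : Type u} [Field Ω] {str : Spec (CommRingCat.of Ω) ⟶ S}
    (g : Over.mk str ⟶ T) (pt : ↥(Over.mk str).left) :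
    Points.mk (Groth.Agent.Lib.AlgSpDecent.Core.ofHom ((yon S).map g)) =
      Points.schemeHomeo T (g.left pt) := by
  have h := Points.ofPt_toHom (Groth.Agent.Lib.AlgSpDecent.Core.ofHom ((yon S).map g)) pt
  rw [Groth.Agent.Lib.AlgSpDecent.Core.toHom_ofHom] at h
  rw [← h, Groth.Agent.Lib.AlgSpDecent.Core.ofPt_yon_map]
  rfl

/-- The geometric fibres over the point are connected. -/
def ConnAt (A : CurvSt.SpFamObj S n) (s : A.base.left) : Prop :=
  ∀ k : FieldPt ((yon S).obj A.base), Points.mk k = Points.schemeHomeo A.base s → k.IsGeometric →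
    ∀ (Xk : Sp S) (a : Xk ⟶ A.X) (b : Xk ⟶ (yon S).obj k.pt), IsPullback a b A.f k.toHom →
      ENat.card (_root_.ConnectedComponents (Points Xk)) = 1

/-- The connected geometrically reduced fibres form an open set. -/
theorem isOpen_connected_reduced {A : CurvSt.SpFamObj S n} (hA : CurvSt.IsCurveFam A) {U : Over S}
    {a : (yon S).obj U ⟶ A.X} {h : U ⟶ A.base} (ha : RepWith @Etale a) (has : RepWith @Surjective a)
    (w : a ≫ A.f = (yon S).map h) :
    IsOpen {s : A.base.left | (∀ u, h.left u = s → grCond h.left u) ∧ ConnAt A s} := by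
  have ht := Groth.Agent.Lib.StCurv.tame_chart hA ha w
  let Z : Set U.left := {u | ¬ grCond h.left u}
  have hsat : Points.ofPt a ⁻¹' (Points.ofPt a '' Z) = Z := by
    refine Set.Subset.antisymm ?_ (Set.subset_preimage_image _ _)
    rintro u ⟨u', hu', e⟩
    obtain ⟨U'', p, q, sq⟩ := exists_isPullback_yon hA.1.diag a a
    haveI : Etale p.left := repWith_property ha sq.flip
    haveI : Etale q.left := repWith_property ha sq
    have k : p ≫ h = q ≫ h := (yon S).map_injective (by
      rw [Functor.map_comp, Functor.map_comp, ← w, reassoc_of% sq.w])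
    obtain ⟨z, rfl, rfl⟩ := (ofPt_eq_ofPt_iff_of_isPullback sq _ _).1 e.symm
    intro hp
    apply hu'
    rw [← grCond_good.src q.left h.left ht z, ← Over.comp_left, ← k, Over.comp_left]
    exact (grCond_good.src p.left h.left ht z).2 hp
  have hc : IsClosed (Points.ofPt a '' Z) := by
    rw [← isOpen_compl_iff, isOpen_iff_chart ha has, Set.preimage_compl, hsat, isOpen_compl_iff]
    exact ⟨by simpa only [Z, Set.compl_ofPred, not_not] using grCond_good.isOpen h.left ht⟩
  have hbad : IsClosed (h.left '' Z) := by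
    have hh : (Points.schemeHomeo A.base) '' (h.left '' Z) = Points.map A.f '' (Points.ofPt a '' Z) := by
      rw [Set.image_image, Set.image_image]
      refine Set.image_congr fun u _ => ?_
      rw [Points.map_ofPt, w, ← Points.map_yon_map_apply, Points.ofPt_eq_map_ofScheme]; rfl
    rw [← (Points.schemeHomeo A.base).isClosed_image, hh]
    exact Proper.isClosedMap_of_isUnivClosedMor (IsAlgSpace.yon_obj A.base) hA.2.2.1.2.2 _ hc
  rw [isOpen_iff_forall_mem_open]
  rintro s ⟨hs, hconn⟩
  let X₀ : AlgSp.Space S := ⟨A.X, hA.1⟩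
  let Y₀ : AlgSp.Space S := ⟨(yon S).obj A.base, IsAlgSpace.yon_obj _⟩
  obtain ⟨O, hO, hsO, hle⟩ := Groth.Agent.Lib.AlgSpGeomCount.exists_nhd_card_le hA.1
    (IsAlgSpace.yon_obj A.base) hA.2.2.1 hA.2.1 hA.2.2.2.1.1 (Points.schemeHomeo A.base s)
    (goodFibre_of_grCond hA ha has w s hs)
  have hlow := Groth.Agent.S10684.result (X := X₀) (Y := Y₀) (ObjectProperty.homMk A.f)
    hA.2.2.1 hA.2.1 hA.2.2.2.1 0
  let Ω : Type u := AlgebraicClosure (A.base.left.residueField s)
  let τ : Spec (CommRingCat.of Ω) ⟶ A.base.left :=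
    Spec.map (CommRingCat.ofHom (algebraMap (A.base.left.residueField s) Ω)) ≫
      A.base.left.fromSpecResidueField s
  let k₀ : FieldPt ((yon S).obj A.base) :=
    Groth.Agent.Lib.AlgSpDecent.Core.ofHom ((yon S).map (A.ptHom τ))
  have hk₀ : Points.mk k₀ = Points.schemeHomeo A.base s :=
    (mk_ofHom_yon (A.ptHom τ) (IsLocalRing.closedPoint Ω)).trans
      (congrArg (Points.schemeHomeo A.base) (resPt_apply s _))
  have hg₀ : k₀.IsGeometric := show IsAlgClosed Ω from inferInstance
  have sq₀ := IsPullback.of_hasPullback A.f k₀.toHom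
  refine ⟨(h.left '' Z)ᶜ ∩ Points.schemeHomeo A.base ⁻¹' (O ∩ _), ?_,
    hbad.isOpen_compl.inter ((hO.inter hlow).preimage (Points.schemeHomeo A.base).continuous),
    fun ⟨u, hu, e⟩ => hu (hs u e), hsO, fun k hk hg Xk a' b' sq => ?_⟩
  · rintro s' ⟨h₁, hO', hl⟩
    refine ⟨fun u hu => not_not.1 fun hn => h₁ ⟨u, hn, hu⟩, fun k hk hg Xk a' b' sq => ?_⟩
    refine le_antisymm ((hle _ hO' k₀ k hk₀ hk hg₀ hg _ _ _ sq₀ _ _ _ sq).1.trans
      (hconn k₀ hk₀ hg₀ _ _ _ sq₀).le) ?_
    exact Order.one_le_iff_pos.2 (hl k hk hg Xk a' b' sq)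
  · show (0 : ℕ∞) < _
    rw [hconn k hk hg Xk a' b' sq]
    exact zero_lt_one

theorem connectedSpace_iff_card_points (W : Over S) :
    ConnectedSpace W.left ↔ ENat.card (_root_.ConnectedComponents (Points ((yon S).obj W))) = 1 := by
  have e : ConnectedSpace W.left ↔ ConnectedSpace (Points ((yon S).obj W)) :=
    ⟨fun _ => (Points.schemeHomeo W).surjective.connectedSpace (Points.schemeHomeo W).continuous,
      fun _ => (Points.schemeHomeo W).symm.surjective.connectedSpace (Points.schemeHomeo W).symm.continuous⟩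
  rw [e, ENat.card_eq_one_iff_unique]
  constructor
  · intro hc
    haveI : Subsingleton (_root_.ConnectedComponents (Points ((yon S).obj W))) := ⟨fun x y => by
      obtain ⟨x, rfl⟩ := ConnectedComponents.surjective_coe x
      obtain ⟨y, rfl⟩ := ConnectedComponents.surjective_coe y
      exact ConnectedComponents.coe_eq_coe'.2 (by
        rw [PreconnectedSpace.connectedComponent_eq_univ]; trivial)⟩
    exact ⟨uniqueOfSubsingleton (ConnectedComponents.mk (Classical.arbitrary _))⟩
  · rintro ⟨hu⟩
    haveI : PreconnectedSpace (Points ((yon S).obj W)) :=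
      preconnectedSpace_iff_connectedComponent.2 fun x => Set.eq_univ_of_forall fun y =>
        ConnectedComponents.coe_eq_coe'.1 (Subsingleton.elim (ConnectedComponents.mk y) (ConnectedComponents.mk x))
    obtain ⟨x, -⟩ := ConnectedComponents.surjective_coe hu.default
    exact { toNonempty := ⟨x⟩ }

/-- Connected geometric fibres of a pulled back family, read on the family. -/
theorem geomFib_connected_iff {A B : CurvSt.SpFamObj S n} (hA : CurvSt.IsCurveFam A)
    (hB : CurvSt.IsCurveFam B) (φ : B ⟶ A) :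
    CurvSt.GeomFib (fun _ _ _ X' _ _ => ConnectedSpace ↥X') B ↔ ∀ t' : B.base.left, ConnAt A (φ.base.left t') := by
  have key : ∀ {Ω : Type u} [Field Ω] (τ : Spec (CommRingCat.of Ω) ⟶ B.base.left) (s : A.base.left),
      φ.base.left (τ (IsLocalRing.closedPoint Ω)) = s →
      Points.mk (Groth.Agent.Lib.AlgSpDecent.Core.ofHom ((yon S).map (B.ptHom τ) ≫ (yon S).map φ.base)) =
        Points.schemeHomeo A.base s := by
    intro Ω _ τ s hs
    rw [← Functor.map_comp, mk_ofHom_yon (B.ptHom τ ≫ φ.base) (IsLocalRing.closedPoint Ω), ← hs]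
    rfl
  constructor
  · intro H t' k hk hg Xk a' b' sq
    let Ω : Type u := AlgebraicClosure (B.base.left.residueField t')
    let τ : Spec (CommRingCat.of Ω) ⟶ B.base.left :=
      Spec.map (CommRingCat.ofHom (algebraMap (B.base.left.residueField t') Ω)) ≫
        B.base.left.fromSpecResidueField t'
    obtain ⟨X', q, i, hP⟩ := exists_fib hB τ
    have hc := (connectedSpace_iff_card_points (B.ptOver (q ≫ τ))).1 (H Ω τ X' q i hP)
    let k₀ : FieldPt ((yon S).obj A.base) :=
      Groth.Agent.Lib.AlgSpDecent.Core.ofHom ((yon S).map (B.ptHom τ) ≫ (yon S).map φ.base)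
    have hk₀ : Points.mk k₀ = Points.schemeHomeo A.base (φ.base.left t') :=
      key τ _ (congrArg φ.base.left (resPt_apply t' _))
    have sq₀ : IsPullback (i ≫ φ.top) ((yon S).map (B.fibHom τ q)) A.f k₀.toHom := by
      rw [Groth.Agent.Lib.AlgSpDecent.Core.toHom_ofHom]
      exact hP.paste_horiz φ.cart
    let X₀ : AlgSp.Space S := ⟨A.X, hA.1⟩
    let Y₀ : AlgSp.Space S := ⟨(yon S).obj A.base, IsAlgSpace.yon_obj _⟩
    rw [Groth.Agent.S10670.result (X := X₀) (Y := Y₀) (X' := X₀) (Y' := Y₀) (ObjectProperty.homMk A.f)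
      (𝟙 Y₀) (𝟙 X₀) (ObjectProperty.homMk A.f) (IsPullback.of_horiz_isIso ⟨by simp⟩)
      k hg k₀ (show IsAlgClosed Ω from inferInstance)
      (by show Points.mk k₀ = Points.map (𝟙 _) (Points.mk k); rw [Points.map_id, hk, hk₀])
      Xk a' b' sq _ _ _ sq₀]
    exact hc
  · intro H Ω _ _ τ X' q i hP
    refine (connectedSpace_iff_card_points (B.ptOver (q ≫ τ))).2 ?_
    exact H (τ (IsLocalRing.closedPoint Ω))
      (Groth.Agent.Lib.AlgSpDecent.Core.ofHom ((yon S).map (B.ptHom τ) ≫ (yon S).map φ.base))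
      (key τ _ rfl) (show IsAlgClosed Ω from inferInstance) _ (i ≫ φ.top) ((yon S).map (B.fibHom τ q))
      (by rw [Groth.Agent.Lib.AlgSpDecent.Core.toHom_ofHom]; exact hP.paste_horiz φ.cart)

end Groth.Agent.H8.CurveSpace
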