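import Groth.Agent.H8.CurveSpace.Connected
import Groth.Agent.Lib.StCurv.Nodal
import Groth.Agent.Lib.StCurv.GeomFibSch
import Groth.Agent.H52.FBase.GeomRedSch
import Groth.Agent.H52.ProjConst
import Groth.Agent.H69.FibreLoci.GR
import Groth.Agent.H97.DimOneSetup
import Groth.Agent.S1549
import Groth.Agent.S1589
import Groth.Agent.Lib.Flat55.CurveNormalizationBC

/-!
# Open substacks of curves with connected fibres
-/

set_option autoImplicit false
set_option linter.style.haveILetI false
set_option backward.isDefEq.respectTransparency false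
set_option backward.isDefEq.respectTransparency.types false

universe u

open CategoryTheory CategoryTheory.Limits AlgebraicGeometry
open Groth.Agent.Lib.AlgSpace Groth.Agent.Lib.AlgSpMor

namespace Groth.Agent.H8.CurveSpace

open AlgSp (Sp yon RepWith IsAlgSpace LocP Points FieldPt)
open AlgSp
open Groth.Agent.Lib.StCurv (PtCond Tame nodalCond smoothDimCond smoothDimCond_good)

/-- The dimension at a point is at most the dimension. -/
theorem fibreDimAt_le_dim {X Y : Scheme.{u}} (f : X ⟶ Y) (x : X) :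
    FlatMor.fibreDimAt f x ≤ topologicalKrullDim X := by
  refine le_trans ?_ (f.fiberι (f x)).isEmbedding.isInducing.topologicalKrullDim_le
  exact (ciInf_le (OrderBot.bddBelow _) ⟨⊤, trivial⟩).trans (topologicalKrullDim_subspace_le _ _)

/-- A reduced curve over an algebraically closed field is smooth of relative dimension one somewhere. -/
theorem exists_smoothDim_one {Ω : Type u} [Field Ω] [IsAlgClosed Ω] {X : Scheme.{u}}
    (q : X ⟶ Spec (CommRingCat.of Ω)) [LocallyOfFiniteType q] [CompactSpace ↥X] [IsReduced X]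
    (hd : topologicalKrullDim X = 1) : ∃ x, smoothDimCond 1 q x := by
  letI : X.Over (Spec (CommRingCat.of Ω)) := ⟨q⟩
  haveI : LocallyOfFiniteType (X ↘ Spec (CommRingCat.of Ω)) := ‹LocallyOfFiniteType q›
  haveI : IsLocallyNoetherian X := LocallyOfFiniteType.isLocallyNoetherian q
  haveI : IsNoetherian X := {}
  obtain ⟨U, hU, hsm⟩ := (Groth.Agent.S1549.result Ω X).1
    (Groth.Agent.H52.FBase.GeomRedSch.geometricallyReduced_of_perfectField q)
  haveI : JacobsonSpace ↥X := LocallyOfFiniteType.jacobsonSpace q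
  obtain ⟨a, b, hab, hne⟩ : ∃ a b : X, a ⤳ b ∧ a ≠ b := by
    by_contra hcon
    push Not at hcon
    have : topologicalKrullDim X ≤ 0 := by
      rw [Groth.Agent.Lib.SchTopo.Basic.topologicalKrullDim_eq_krullDim_scheme]
      refine Order.krullDim_nonpos_iff_forall_isMin.2 fun x y hy => ?_
      exact (hcon x y hy) ▸ le_rfl
    rw [hd] at this
    exact absurd this (by norm_num)
  obtain ⟨η, hη, hηa⟩ := Groth.Agent.H97.AffineImages.exists_gen_specializes a
  have hηU : η ∈ U := Groth.Agent.H97.CurveProj.gen_mem_of_dense U.2 hU hη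
  refine ⟨η, ⟨U, hηU, hsm⟩, ?_⟩
  have hle : FlatMor.fibreDimAt q η ≤ ((1 : ℕ) : WithBot ℕ∞) :=
    (fibreDimAt_le_dim q η).trans (by rw [hd]; norm_num)
  have hne0 : FlatMor.fibreDimAt q η ≠ 0 := by
    intro h0
    have hq := (Groth.Agent.Lib.AlgSpDecent.RelDim.quasiFiniteAt_iff_fibreDimAt q η).2 h0
    rw [Scheme.Hom.quasiFiniteAt_iff_isOpen_singleton_asFiber, ← (q.fiberHomeo (q η)).isOpen_image,
      Set.image_singleton, show q.fiberHomeo (q η) (q.asFiber η) = ⟨η, rfl⟩ from
        Homeomorph.apply_symm_apply _ _] at hq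
    obtain ⟨O, hO, hOη⟩ := hq
    have hsing : O = {η} := by
      ext x
      have hx : q x = q η := Subsingleton.elim _ _
      have := Set.ext_iff.1 hOη ⟨x, hx⟩
      simpa [Subtype.ext_iff] using this
    subst hsing
    have hc : IsClosed ({η} : Set X) := isClosed_singleton_of_isLocallyClosed_singleton hO.isLocallyClosed
    have h1 : a = η := hc.closure_subset (specializes_iff_mem_closure.1 hηa)
    have h2 : b = η := hc.closure_subset (specializes_iff_mem_closure.1 (hηa.trans hab))
    exact hne (h1.trans h2.symm)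
  have h0le : (0 : WithBot ℕ∞) ≤ FlatMor.fibreDimAt q η := by
    haveI : Nonempty {U : TopologicalSpace.Opens (q.fiber (q η)) // q.asFiber η ∈ U} := ⟨⟨⊤, trivial⟩⟩
    refine le_ciInf fun U => ?_
    haveI : Nonempty (U.1 : Set (q.fiber (q η))) := ⟨⟨_, U.2⟩⟩
    haveI : Nonempty (TopologicalSpace.IrreducibleCloseds (U.1 : Set (q.fiber (q η)))) :=
      ⟨⟨closure {⟨_, U.2⟩}, isIrreducible_singleton.closure, isClosed_closure⟩⟩
    exact Order.krullDim_nonneg
  rcases h : FlatMor.fibreDimAt q η with _ | m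
  · rw [h] at h0le; exact absurd h0le (WithBot.not_coe_le_bot _)
  · rw [h] at hle hne0
    have hm : m ≤ 1 := WithBot.coe_le_coe.1 hle
    rcases ENat.le_one_iff_eq_zero_or_eq_one.1 hm with rfl | rfl
    · exact absurd rfl hne0
    · rfl

/-- At a point where the family is nodal the fibre is geometrically reduced. -/
theorem grCond_of_nodalCond {X Y : Scheme.{u}} (h : X ⟶ Y) (ht : Tame h) (x : X)
    (hx : nodalCond h x) : grCond h x := by
  obtain ⟨W, hW, hn⟩ := hx
  haveI := ht.2
  haveI : LocallyOfFiniteType (W.ι ≫ h) := inferInstance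
  have h1 : grCond (W.ι ≫ h) ⟨x, hW⟩ := by
    obtain ⟨hd, hN⟩ := hn.2.2 ((W.ι ≫ h) ⟨x, hW⟩)
    letI : ((W.ι ≫ h).fiber ((W.ι ≫ h) ⟨x, hW⟩)).Over (Spec (Y.residueField ((W.ι ≫ h) ⟨x, hW⟩))) :=
      ⟨(W.ι ≫ h).fiberToSpecResidueField _⟩
    haveI : LocallyOfFiniteType (((W.ι ≫ h).fiber ((W.ι ≫ h) ⟨x, hW⟩)) ↘ Spec (CommRingCat.of (Y.residueField ((W.ι ≫ h) ⟨x, hW⟩)))) :=
      MorphismProperty.pullback_snd _ _ ‹LocallyOfFiniteType (W.ι ≫ h)›
    have hg := (Groth.Agent.S1589.result (Y.residueField ((W.ι ≫ h) ⟨x, hW⟩)) _ hd hN).2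
    exact (Groth.Agent.H69.FibreLoci.GR.geometricallyReduced_fiber_iff (W.ι ≫ h) _).1 hg _ rfl
  exact (grCond_good.src W.ι h ht ⟨x, hW⟩).1 h1

variable {S : Scheme.{u}} {n : ℕ}

/-- The geometric fibres of the projective line family. -/
theorem geomFib_p1 {X : Over S} {Ω : Type u} [Field Ω] {t : Spec (CommRingCat.of Ω) ⟶ S}
    (h : X ⟶ Over.mk t) [SmoothOfRelativeDimension 1 h.left] [GeometricallyIrreducible h.left]
    {K : Type u} [Field K] {τ : Spec (CommRingCat.of K) ⟶ (Over.mk t).left} {X' : Scheme.{u}}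
    {q : X' ⟶ Spec (CommRingCat.of K)}
    {i : (yon S).obj ((Groth.Agent.Lib.StCurv.schFam h).ptOver (q ≫ τ)) ⟶ (Groth.Agent.Lib.StCurv.schFam h).X}
    (hP : IsPullback i ((yon S).map ((Groth.Agent.Lib.StCurv.schFam h).fibHom τ q))
      (Groth.Agent.Lib.StCurv.schFam h).f ((yon S).map ((Groth.Agent.Lib.StCurv.schFam h).ptHom τ))) :
    IsReduced X' ∧ ConnectedSpace ↥X' ∧ topologicalKrullDim ↥X' = 1 := by
  obtain ⟨j, sq⟩ := Groth.Agent.Lib.StCurv.exists_isPullback_of_schFam h hP
  haveI := smoothOfRelativeDimension_isStableUnderBaseChange (n := 1)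
  haveI : SmoothOfRelativeDimension 1 q :=
    MorphismProperty.of_isPullback (P := @SmoothOfRelativeDimension 1) sq inferInstance
  haveI : Smooth q := SmoothOfRelativeDimension.smooth 1 _
  haveI : IrreducibleSpace ↥X' :=
    GeometricallyIrreducible.geometrically_irreducibleSpace (f := h.left) _ _ _ sq
  refine ⟨Groth.Agent.Lib.Flat55.CurveNormalizationBC.isReduced_of_smooth q, inferInstance, ?_⟩
  have hd := fun x => ((Groth.Agent.Lib.StCurv.smoothOfRelativeDimension_iff 1 q).1 inferInstance x).2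
  refine le_antisymm (topologicalKrullDim_le_one_of_fibreDimAt (k := K) q fun x => (hd x).le) ?_
  have := (fibreDimAt_le_dim q (Classical.arbitrary ↥X'))
  rw [hd] at this
  exact this.trans' (by norm_num)

variable (S) in
/-- Curves with reduced connected one-dimensional geometric fibres form an open substack. -/
theorem isOpenSubstack_reduced_connected_dimOne
    (hC : AlgSt.IsAlgStack Scheme.fppfPrecoverage (CurvSt.Curves S n)) :
    AlgSt.IsOpenSubstack (CurvSt.Curves S n) (fun A => CurvSt.GeomFib (fun _ _ _ X' _ _ =>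
      IsReduced X' ∧ ConnectedSpace ↥X' ∧ topologicalKrullDim ↥X' = 1) A.obj) Scheme.fppfPrecoverage := by
  refine Groth.Agent.Lib.StCurv.isOpenSubstack_of_opens S n hC
    (fun A => CurvSt.GeomFib (fun _ _ _ X' _ _ =>
      IsReduced X' ∧ ConnectedSpace ↥X' ∧ topologicalKrullDim ↥X' = 1) A) fun A hA => ?_
  obtain ⟨U, a, h, ha, has, w⟩ := Groth.Agent.Lib.StCurv.exists_chart hA
  have ht := Groth.Agent.Lib.StCurv.tame_chart hA ha w
  haveI := ht.1
  haveI := ht.2
  have hD : IsOpen (h.left '' {u | smoothDimCond 1 h.left u}) :=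
    h.left.isOpenMap _ ((smoothDimCond_good 1).isOpen h.left ht)
  refine ⟨⟨_, (isOpen_connected_reduced hA ha has w).inter hD⟩, fun B hB φ => ?_⟩
  obtain ⟨W, a', v, p, ha', has', w', sq⟩ := exists_chart_pullback φ ha has w
  constructor
  · rintro HB _ ⟨t', rfl⟩
    have hred : CurvSt.GeomFib (fun _ _ _ X' _ _ => IsReduced X') B :=
      fun Ω _ _ τ X' q i hP => (HB Ω τ X' q i hP).1
    refine ⟨⟨forall_over_of_pullback grCond_good sq ht ((geomFib_isReduced_iff hB ha' has' w').1 hred) t',
      (geomFib_connected_iff hA hB φ).1 (fun Ω _ _ τ X' q i hP => (HB Ω τ X' q i hP).2.1) t'⟩, ?_⟩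
    let Ω : Type u := AlgebraicClosure (B.base.left.residueField t')
    let τ : Spec (CommRingCat.of Ω) ⟶ B.base.left :=
      Spec.map (CommRingCat.ofHom (algebraMap (B.base.left.residueField t') Ω)) ≫
        B.base.left.fromSpecResidueField t'
    obtain ⟨X', q, i, hP⟩ := exists_fib hB τ
    obtain ⟨hr, hc, hd⟩ := HB Ω τ X' q i hP
    haveI := hr
    obtain ⟨c, _, hcs, hcq⟩ := exists_fib_cover ha' has' w' hP
    have htv : Tame v.left := ht.baseChange sq
    have ht' : Tame (c ≫ q) := by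
      rw [hcq]; exact htv.baseChange (IsPullback.of_hasPullback v.left τ)
    have htq : Tame q :=
      ⟨Groth.Agent.Lib.SourceDescent.Scheme.flat.descends c q inferInstance hcs ht'.1,
        Groth.Agent.Lib.SourceDescent.Scheme.locallyOfFinitePresentation.descends c q inferInstance hcs ht'.2⟩
    haveI := htq.2
    haveI : CompactSpace ↥X' := by
      haveI : CompactSpace ↥(B.ptOver τ).left := inferInstanceAs (CompactSpace ↥(Spec (CommRingCat.of Ω)))
      haveI : CompactSpace (Points ((yon S).obj (B.ptOver (q ≫ τ)))) :=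
        QC.compactSpace_of_isQuasiCompactMor hB.2.2.1.2.1.2 hP
      exact (AlgSp.Points.schemeHomeo (B.ptOver (q ≫ τ))).symm.compactSpace
    obtain ⟨x, hx⟩ := exists_smoothDim_one q hd
    obtain ⟨z, rfl⟩ := c.surjective x
    have h1 := ((smoothDimCond_good 1).src c q htq z).2 hx
    rw [hcq] at h1
    have h2 := ((smoothDimCond_good 1).bc (IsPullback.of_hasPullback v.left τ) htv z).1 h1
    have h3 := ((smoothDimCond_good 1).bc sq ht _).1 h2
    refine ⟨_, h3, ?_⟩
    rw [← Scheme.Hom.comp_apply, sq.w, Scheme.Hom.comp_apply]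
    refine congrArg φ.base.left ?_
    rw [← Scheme.Hom.comp_apply, pullback.condition, Scheme.Hom.comp_apply,
      Subsingleton.elim (pullback.snd v.left τ z) (IsLocalRing.closedPoint Ω)]
    exact resPt_apply t' _
  · intro H Ω _ _ τ X' q i hP
    have hs := H ⟨τ (IsLocalRing.closedPoint Ω), rfl⟩
    have hred : CurvSt.GeomFib (fun _ _ _ X' _ _ => IsReduced X') B :=
      (geomFib_isReduced_iff hB ha' has' w').2 fun z => (grCond_good.bc sq ht z).2
        ((H ⟨v.left z, rfl⟩).1.1 (p.left z) (by rw [← Scheme.Hom.comp_apply, sq.w, Scheme.Hom.comp_apply]))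
    refine ⟨hred Ω τ X' q i hP,
      (geomFib_connected_iff hA hB φ).2 (fun t' => (H ⟨t', rfl⟩).1.2) Ω τ X' q i hP, ?_⟩
    obtain ⟨c, _, hcs, hcq⟩ := exists_fib_cover ha' has' w' hP
    have htv : Tame v.left := ht.baseChange sq
    have ht' : Tame (c ≫ q) := by
      rw [hcq]; exact htv.baseChange (IsPullback.of_hasPullback v.left τ)
    have htq : Tame q :=
      ⟨Groth.Agent.Lib.SourceDescent.Scheme.flat.descends c q inferInstance hcs ht'.1,
        Groth.Agent.Lib.SourceDescent.Scheme.locallyOfFinitePresentation.descends c q inferInstance hcs ht'.2⟩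
    haveI := htq.2
    haveI : LocallyOfFiniteType q := inferInstance
    haveI := htv.2
    obtain ⟨u, hu, hus⟩ := hs.2
    obtain ⟨z₀, hz₁, hz₂⟩ := Scheme.Pullback.exists_preimage_pullback (f := h.left) (g := φ.base.left)
      u (τ (IsLocalRing.closedPoint Ω)) hus
    let z := sq.isoPullback.inv z₀
    have hpz : p.left z = u := by
      show p.left (sq.isoPullback.inv z₀) = u
      rw [← Scheme.Hom.comp_apply, sq.isoPullback_inv_fst, hz₁]
    have hvz : v.left z = τ (IsLocalRing.closedPoint Ω) := by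
      show v.left (sq.isoPullback.inv z₀) = _
      rw [← Scheme.Hom.comp_apply, sq.isoPullback_inv_snd, hz₂]
    obtain ⟨y, hy₁, -⟩ := Scheme.Pullback.exists_preimage_pullback (f := v.left) (g := τ) z
      (IsLocalRing.closedPoint Ω) hvz
    have h2 := ((smoothDimCond_good 1).bc (IsPullback.of_hasPullback v.left τ) htv y).2
      (hy₁.symm ▸ ((smoothDimCond_good 1).bc sq ht z).2 (hpz.symm ▸ hu))
    rw [← hcq] at h2
    have hcy := (((smoothDimCond_good 1).src c q htq y).1 h2).2
    refine le_antisymm (topologicalKrullDim_le_one_of_fibreDimAt (k := Ω) q fun x => ?_) ?_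
    · obtain ⟨y', rfl⟩ := c.surjective x
      rw [← Groth.Agent.Lib.AlgSpThick.FibreDim.fibreDimAt_precomp c q y', hcq,
        Groth.Agent.H2.FibreDimPullback.fibreDimAt_of_isPullback (IsPullback.of_hasPullback v.left τ) y']
      exact (Groth.Agent.Lib.AlgSpDecent.RelDim.hasAtMor_fibreDim_pred hB.1 (IsAlgSpace.yon_obj _)
        hB.2.2.1.2.1.1 (· ≤ ((1 : ℕ) : WithBot ℕ∞)) ha' (AlgSp.repWith_id _ _)
        (by rw [Category.comp_id, w']) _).1 (hB.2.2.2.2 _)
    · have := fibreDimAt_le_dim q (c y)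
      rw [hcy] at this
      exact this.trans' (by norm_num)

variable (S) in
/-- Prestable curves form an open substack. -/
theorem isOpenSubstack_prestable
    (hC : AlgSt.IsAlgStack Scheme.fppfPrecoverage (CurvSt.Curves S n)) :
    AlgSt.IsOpenSubstack (CurvSt.Curves S n) (fun A => CurvSt.SpIsPrestable A.obj) Scheme.fppfPrecoverage := by
  refine Groth.Agent.Lib.StCurv.isOpenSubstack_of_opens S n hC CurvSt.SpIsPrestable fun A hA => ?_
  obtain ⟨U, a, h, ha, has, w⟩ := Groth.Agent.Lib.StCurv.exists_chart hA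
  have ht := Groth.Agent.Lib.StCurv.tame_chart hA ha w
  obtain ⟨O, hO⟩ := Groth.Agent.Lib.StCurv.exists_opens (n := n) Groth.Agent.Lib.StCurv.nodalCond_good
    (fun B => LocP CurvSt.nodalFam B.f) (fun B hB U a h ha has w =>
      Groth.Agent.Lib.StCurv.locP_iff_chart Groth.Agent.Lib.StCurv.nodalCond_good
        Groth.Agent.Lib.StCurv.nodalCond_tgtInv
        (fun f _ => Groth.Agent.Lib.StCurv.isNodalFamily_iff_forall f) hB ha has w) hA
  refine ⟨⟨_, (isOpen_connected_reduced hA ha has w).inter O.2⟩, fun B hB φ => ?_⟩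
  obtain ⟨W, a', v, p, ha', has', w', sq⟩ := exists_chart_pullback φ ha has w
  constructor
  · rintro ⟨hN, hc⟩ _ ⟨t', rfl⟩
    refine ⟨⟨fun u hu => grCond_of_nodalCond h.left ht u ?_, (geomFib_connected_iff hA hB φ).1 hc t'⟩,
      (hO B hB φ).1 hN ⟨t', rfl⟩⟩
    exact forall_over_of_pullback Groth.Agent.Lib.StCurv.nodalCond_good sq ht
      ((Groth.Agent.Lib.StCurv.locP_iff_chart Groth.Agent.Lib.StCurv.nodalCond_good
        Groth.Agent.Lib.StCurv.nodalCond_tgtInv
        (fun f _ => Groth.Agent.Lib.StCurv.isNodalFamily_iff_forall f) hB ha' has' w').1 hN) t' u hu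
  · intro H
    exact ⟨(hO B hB φ).2 fun s hs => (H hs).2,
      (geomFib_connected_iff hA hB φ).2 fun t' => (H ⟨t', rfl⟩).1.2⟩

end Groth.Agent.H8.CurveSpace
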