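import Groth.Agent.H8.CurveSpace.Scheme
import Groth.Agent.Lib.StCurv.Criterion
import Groth.Agent.Lib.AlgSpDecent.RelDim
import Groth.Agent.Lib.FibreDim.Basic

/-!
# Geometric fibres of families of curves are schemes
-/

set_option autoImplicit false
set_option linter.style.haveILetI false
set_option backward.isDefEq.respectTransparency false
set_option backward.isDefEq.respectTransparency.types false

universe u

open CategoryTheory CategoryTheory.Limits AlgebraicGeometry
open Groth.Agent.Lib.AlgSpace Groth.Agent.Lib.AlgSpMor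

namespace Groth.Agent.H8.CurveSpace

open AlgSp (Sp yon RepWith IsAlgSpace IsSeparatedMor IsProperMor LocP Points)
open AlgSp

variable {S : Scheme.{u}}

/-- A scheme over a field with all fibre dimensions at most one is a curve. -/
theorem topologicalKrullDim_le_one_of_fibreDimAt {k : Type u} [Field k] {X : Scheme.{u}}
    (g : X ⟶ Spec (CommRingCat.of k)) (h : ∀ x, FlatMor.fibreDimAt g x ≤ ((1 : ℕ) : WithBot ℕ∞)) :
    topologicalKrullDim X ≤ 1 := by
  let pt : ↥(Spec (CommRingCat.of k)) := IsLocalRing.closedPoint k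
  have hpt : ∀ x, g x = pt := fun x => Subsingleton.elim _ _
  have hemb : Topology.IsInducing ((((Homeomorph.Set.univ X).symm.trans (Homeomorph.setCongr
      (t := g ⁻¹' {pt}) (Set.eq_univ_of_forall hpt).symm)).trans (g.fiberHomeo pt).symm)) :=
    Homeomorph.isInducing _
  refine hemb.topologicalKrullDim_le.trans ?_
  refine Groth.Agent.Lib.FibreDim.Basic.topologicalKrullDim_le_of_forall fun a => ?_
  have key : ∀ (x : X) (y : ↥(Spec (CommRingCat.of k))) (_ : g x = y) (a : g.fiber y),
      g.fiberι y a = x → FlatMor.localDim _ a = FlatMor.fibreDimAt g x := by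
    rintro x _ rfl a ha
    obtain rfl : a = g.asFiber x :=
      (g.fiberι (g x)).isEmbedding.injective (ha.trans (g.fiberι_asFiber x).symm)
    rfl
  rw [key _ pt (hpt _) a rfl]
  exact (h _).trans (by norm_num)

variable {n : ℕ} {A : CurvSt.SpFamObj S n}

/-- The geometric fibre of a family of curves is a scheme of dimension at most one. -/
theorem exists_fib (hA : CurvSt.IsCurveFam A) {Ω : Type u} [Field Ω]
    (τ : Spec (CommRingCat.of Ω) ⟶ A.base.left) :
    ∃ (X' : Scheme.{u}) (q : X' ⟶ Spec (CommRingCat.of Ω))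
      (i : (yon S).obj (A.ptOver (q ≫ τ)) ⟶ A.X),
      IsPullback i ((yon S).map (A.fibHom τ q)) A.f ((yon S).map (A.ptHom τ)) := by
  let t : Spec (CommRingCat.of Ω) ⟶ S := τ ≫ A.base.hom
  let P := pullback A.f ((yon S).map (A.ptHom τ))
  have sq : IsPullback (pullback.fst A.f ((yon S).map (A.ptHom τ))) (pullback.snd _ _) A.f
      ((yon S).map (A.ptHom τ)) := IsPullback.of_hasPullback _ _
  have hP : IsAlgSpace P := isAlgSpace_of_isPullback sq (IsAlgSpace.yon_obj _).diag hA.1
    (IsAlgSpace.yon_obj _)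
  have hf : IsProperMor (pullback.snd A.f ((yon S).map (A.ptHom τ))) :=
    Proper.isProperMor_baseChange hA.1 (IsAlgSpace.yon_obj _) (IsAlgSpace.yon_obj _) sq hA.2.2.1
  obtain ⟨W, ⟨ε⟩⟩ := exists_iso_yon (k := Ω) (t := t) hP (f := pullback.snd A.f ((yon S).map (A.ptHom τ))) hf
    (fun U b hb => by
      obtain ⟨m, hm⟩ := (yon S).map_surjective (b ≫ pullback.snd A.f ((yon S).map (A.ptHom τ)))
      refine topologicalKrullDim_le_one_of_fibreDimAt (k := Ω) m.left fun v => ?_
      have h1 := (Groth.Agent.Lib.AlgSpDecent.RelDim.fibreDim_of_isPullback hA.1 (IsAlgSpace.yon_obj _)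
        (IsAlgSpace.yon_obj _) sq hA.2.2.1.2.1.1 (Points.ofPt b v) (· ≤ ((1 : ℕ) : WithBot ℕ∞))).2
        (hA.2.2.2.2 _)
      exact (Groth.Agent.Lib.AlgSpDecent.RelDim.hasAtMor_fibreDim_pred hP (IsAlgSpace.yon_obj _)
        hf.2.1.1 (· ≤ ((1 : ℕ) : WithBot ℕ∞)) hb (AlgSp.repWith_id _ _)
        (by rw [Category.comp_id, hm]) v).1 h1)
  obtain ⟨w, hw⟩ := (yon S).map_surjective (ε.hom ≫ pullback.snd A.f ((yon S).map (A.ptHom τ)))
  let e : A.ptOver (w.left ≫ τ) ≅ W := Over.isoMk (Iso.refl _) (by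
    show 𝟙 _ ≫ W.hom = (w.left ≫ τ) ≫ A.base.hom
    rw [Category.id_comp, Category.assoc]
    exact (Over.w w).symm)
  refine ⟨W.left, w.left, (yon S).map e.hom ≫ ε.hom ≫ pullback.fst A.f ((yon S).map (A.ptHom τ)),
    sq.of_iso (((yon S).mapIso e ≪≫ ε).symm) (Iso.refl _) (Iso.refl _) (Iso.refl _) ?_ ?_ (by simp)
      (by simp)⟩
  · simp
  · have he : e.hom ≫ w = A.fibHom τ w.left := Over.OverMorphism.ext (by simp [e])
    rw [← he, Functor.map_comp, hw]
    simp

/-- The geometric fibre is covered by the fibre of a chart. -/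
theorem exists_fib_cover {U : Over S} {a : (yon S).obj U ⟶ A.X} {h : U ⟶ A.base}
    (ha : RepWith @Etale a) (has : RepWith @Surjective a) (w : a ≫ A.f = (yon S).map h)
    {Ω : Type u} [Field Ω] {τ : Spec (CommRingCat.of Ω) ⟶ A.base.left} {X' : Scheme.{u}}
    {q : X' ⟶ Spec (CommRingCat.of Ω)} {i : (yon S).obj (A.ptOver (q ≫ τ)) ⟶ A.X}
    (hP : IsPullback i ((yon S).map (A.fibHom τ q)) A.f ((yon S).map (A.ptHom τ))) :
    ∃ c : pullback h.left τ ⟶ X', Etale c ∧ Surjective c ∧ c ≫ q = pullback.snd h.left τ := by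
  let Q := pullback h (A.ptHom τ)
  have sqQ : IsPullback (pullback.fst h (A.ptHom τ)) (pullback.snd h (A.ptHom τ)) h (A.ptHom τ) :=
    IsPullback.of_hasPullback _ _
  obtain ⟨c, hc⟩ := (yon S).map_surjective (hP.lift ((yon S).map (pullback.fst h (A.ptHom τ)) ≫ a)
    ((yon S).map (pullback.snd h (A.ptHom τ))) (by
      rw [Category.assoc, w, ← Functor.map_comp, ← Functor.map_comp, pullback.condition]))
  have h1 : (yon S).map c ≫ (yon S).map (A.fibHom τ q) = (yon S).map (pullback.snd h (A.ptHom τ)) := by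
    rw [hc]; exact hP.lift_snd _ _ _
  have h2 : (yon S).map c ≫ i = (yon S).map (pullback.fst h (A.ptHom τ)) ≫ a := by
    rw [hc]; exact hP.lift_fst _ _ _
  have sqc : IsPullback ((yon S).map (pullback.fst h (A.ptHom τ))) ((yon S).map c) a i := by
    refine IsPullback.of_bot (h₁₁ := (yon S).map (pullback.fst h (A.ptHom τ))) ?_ h2.symm hP
    rw [h1, w]
    exact isPullback_yon sqQ
  haveI : Etale c.left := repWith_property ha sqc
  haveI : Surjective c.left := repWith_property has sqc
  have hcq : c.left ≫ q = (pullback.snd h (A.ptHom τ)).left := by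
    have h3 : c ≫ A.fibHom τ q = pullback.snd h (A.ptHom τ) :=
      (yon S).map_injective (by rw [Functor.map_comp, h1])
    exact congrArg CommaMorphism.left h3
  have sqL : IsPullback (pullback.fst h (A.ptHom τ)).left (pullback.snd h (A.ptHom τ)).left h.left τ :=
    sqQ.map (Over.forget S)
  refine ⟨sqL.isoPullback.inv ≫ c.left, inferInstance, inferInstance, ?_⟩
  rw [Category.assoc, hcq, sqL.isoPullback_inv_snd]

end Groth.Agent.H8.CurveSpace
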