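import Groth.Agent.H8.CurveSpace.Fibre
import Groth.Agent.H2.FibreDimPullback
import Groth.Agent.Lib.StCurv.Smooth
import Mathlib.AlgebraicGeometry.IdealSheaf.Subscheme

/-!
# Families of curves smooth outside finitely many points in each fibre
-/

set_option autoImplicit false
set_option linter.style.haveILetI false
set_option backward.isDefEq.respectTransparency false
set_option backward.isDefEq.respectTransparency.types false

universe u

open CategoryTheory CategoryTheory.Limits AlgebraicGeometry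
open Groth.Agent.Lib.AlgSpace Groth.Agent.Lib.AlgSpMor

namespace Groth.Agent.H8.CurveSpace

open AlgSp (Sp yon RepWith IsAlgSpace LocP Points)
open Groth.Agent.Lib.StCurv (PtCond Tame smoothCond smoothCond_good)

/-- The point is not a limit of non-smooth points of its fibre other than itself. -/
abbrev isoSingCond : PtCond.{u} := fun X _ f x =>
  ∃ W : X.Opens, x ∈ W ∧ ∀ x' ∈ W, f x' = f x → ¬ smoothCond f x' → x' = x

variable {X Y X' Y' : Scheme.{u}}

theorem isoSingCond_of_smooth {f : X ⟶ Y} {x : X} (h : smoothCond f x) : isoSingCond f x := by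
  obtain ⟨W, hW, hs⟩ := h
  exact ⟨W, hW, fun x' hx' _ hn => absurd ⟨W, hx', hs⟩ hn⟩

/-- On the non-smooth locus the condition is quasi-finiteness of that locus over the base. -/
theorem isoSingCond_iff_quasiFiniteAt {Z : Scheme.{u}} (f : X ⟶ Y) (e : Z ⟶ X) [IsClosedImmersion e]
    [LocallyOfFiniteType (e ≫ f)] (he : Set.range e = {x | ¬ smoothCond f x}) (z : Z) :
    isoSingCond f (e z) ↔ (e ≫ f).QuasiFiniteAt z := by
  rw [Scheme.Hom.quasiFiniteAt_iff_isOpen_singleton_asFiber,
    ← ((e ≫ f).fiberHomeo ((e ≫ f) z)).isOpen_image, Set.image_singleton]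
  rw [show (e ≫ f).fiberHomeo ((e ≫ f) z) ((e ≫ f).asFiber z) = ⟨z, rfl⟩ from
    Homeomorph.apply_symm_apply _ _]
  constructor
  · rintro ⟨W, hW, h⟩
    refine ⟨e ⁻¹' (W : Set X), W.2.preimage e.continuous, ?_⟩
    ext ⟨w, hw⟩
    refine ⟨fun hwW => Subtype.ext (e.injective (h _ hwW ?_ ?_)), fun hwe => ?_⟩
    · have hw' : (e ≫ f) w = (e ≫ f) z := hw
      rwa [Scheme.Hom.comp_apply, Scheme.Hom.comp_apply] at hw'
    · exact he.le ⟨w, rfl⟩
    · rw [Set.mem_singleton_iff, Subtype.ext_iff] at hwe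
      show e w ∈ (W : Set X)
      rw [show w = z from hwe]
      exact hW
  · rintro ⟨O, hO, hOz⟩
    obtain ⟨W, hW, rfl⟩ := e.isEmbedding.isInducing.isOpen_iff.1 hO
    refine ⟨⟨W, hW⟩, ?_, fun x' hx' hf hn => ?_⟩
    · have : (⟨z, rfl⟩ : (e ≫ f) ⁻¹' {(e ≫ f) z}) ∈ Subtype.val ⁻¹' (e ⁻¹' W) := by
        rw [hOz]; rfl
      exact this
    · obtain ⟨w, rfl⟩ := he.ge hn
      have hw : (⟨w, by simpa [Scheme.Hom.comp_apply] using hf⟩ : (e ≫ f) ⁻¹' {(e ≫ f) z}) ∈
          Subtype.val ⁻¹' (e ⁻¹' W) := hx'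
      rw [hOz, Set.mem_singleton_iff, Subtype.ext_iff] at hw
      exact congrArg e hw

theorem exists_nonsmooth_subscheme (f : X ⟶ Y) (h : Tame f) :
    ∃ (Z : Scheme.{u}) (e : Z ⟶ X), IsClosedImmersion e ∧ Set.range e = {x | ¬ smoothCond f x} := by
  have hc : IsClosed {x | ¬ smoothCond f x} := (smoothCond_good.isOpen f h).isClosed_compl
  let J := Scheme.IdealSheafData.vanishingIdeal (⟨_, hc⟩ : TopologicalSpace.Closeds X)
  refine ⟨J.subscheme, J.subschemeι, inferInstance, ?_⟩
  rw [Scheme.IdealSheafData.range_subschemeι, Scheme.IdealSheafData.coe_support_vanishingIdeal]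
  rfl

theorem isoSingCond_good : isoSingCond.{u}.Good where
  isOpen {X Y} f h := by
    have := h.2
    obtain ⟨Z, e, he, her⟩ := exists_nonsmooth_subscheme f h
    have hbad : IsClosed (e '' ((e ≫ f).quasiFiniteLocus : Set Z)ᶜ) :=
      e.isClosedEmbedding.isClosedMap _ (e ≫ f).quasiFiniteLocus.2.isClosed_compl
    have heq : {x | isoSingCond f x} = (e '' ((e ≫ f).quasiFiniteLocus : Set Z)ᶜ)ᶜ := by
      ext x
      constructor
      · rintro hx ⟨z, hz, rfl⟩
        exact hz (Scheme.Hom.mem_quasiFiniteLocus.2 ((isoSingCond_iff_quasiFiniteAt f e her z).1 hx))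
      · intro hx
        by_cases hs : smoothCond f x
        · exact isoSingCond_of_smooth hs
        · obtain ⟨z, rfl⟩ := her.ge hs
          refine (isoSingCond_iff_quasiFiniteAt f e her z).2 ?_
          by_contra hq
          exact hx ⟨z, fun hz => hq (Scheme.Hom.mem_quasiFiniteLocus.1 hz), rfl⟩
    rw [heq]
    exact hbad.isOpen_compl
  src {X' X Y} p _ f h z := by
    constructor
    · rintro ⟨W, hW, hWz⟩
      refine ⟨⟨p '' (W : Set X'), p.isOpenMap _ W.2⟩, ⟨z, hW, rfl⟩, ?_⟩
      rintro _ ⟨w, hw, rfl⟩ hf hn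
      refine congrArg p (hWz w hw ?_ fun hs => hn ((smoothCond_good.src p f h w).1 hs))
      rw [Scheme.Hom.comp_apply, Scheme.Hom.comp_apply, hf]
    · rintro ⟨W, hW, hWz⟩
      have hq : IsOpen ({⟨z, rfl⟩} : Set (p ⁻¹' {p z})) := by
        have h1 := (p.fiberHomeo (p z)).isOpen_image.2
          (Scheme.Hom.quasiFiniteAt_iff_isOpen_singleton_asFiber.1 (p.quasiFiniteAt z))
        rwa [Set.image_singleton, show p.fiberHomeo (p z) (p.asFiber z) = ⟨z, rfl⟩ from
          Homeomorph.apply_symm_apply _ _] at h1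
      obtain ⟨O, hO, hOz⟩ := hq
      refine ⟨p ⁻¹ᵁ W ⊓ ⟨O, hO⟩, ⟨hW, ?_⟩, fun w hw hf hn => ?_⟩
      · have : (⟨z, rfl⟩ : p ⁻¹' {p z}) ∈ Subtype.val ⁻¹' O := by rw [hOz]; rfl
        exact this
      · have hpw : p w = p z := hWz _ hw.1 (by simpa [Scheme.Hom.comp_apply] using hf)
          fun hs => hn ((smoothCond_good.src p f h w).2 hs)
        have : (⟨w, hpw⟩ : p ⁻¹' {p z}) ∈ Subtype.val ⁻¹' O := hw.2
        rw [hOz, Set.mem_singleton_iff, Subtype.ext_iff] at this
        exact this
  bc {X' X Y' Y g' f' f g} sq h z := by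
    by_cases hs : smoothCond f (g' z)
    · exact ⟨fun _ => isoSingCond_of_smooth hs,
        fun _ => isoSingCond_of_smooth ((smoothCond_good.bc sq h z).2 hs)⟩
    have := h.2
    have : LocallyOfFinitePresentation f' := (Tame.baseChange sq h).2
    obtain ⟨Z, e, he, her⟩ := exists_nonsmooth_subscheme f h
    obtain ⟨y, hy⟩ := her.ge hs
    obtain ⟨w, hw₁, hw₂⟩ := Scheme.Pullback.exists_preimage_pullback (f := e) (g := g') y z hy
    haveI : IsClosedImmersion (pullback.snd e g') := MorphismProperty.pullback_snd _ _ he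
    have her' : Set.range (pullback.snd e g') = {x | ¬ smoothCond f' x} := by
      rw [Scheme.Pullback.range_snd, her]
      ext x
      exact not_congr (smoothCond_good.bc sq h x).symm
    have sq' : IsPullback (pullback.fst e g') (pullback.snd e g' ≫ f') (e ≫ f) g :=
      (IsPullback.of_hasPullback e g').paste_vert sq
    subst hw₁ hw₂
    rw [← hy, isoSingCond_iff_quasiFiniteAt f' _ her', isoSingCond_iff_quasiFiniteAt f e her,
      Groth.Agent.Lib.AlgSpDecent.RelDim.quasiFiniteAt_iff_fibreDimAt, Groth.Agent.Lib.AlgSpDecent.RelDim.quasiFiniteAt_iff_fibreDimAt,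
      Groth.Agent.H2.FibreDimPullback.fibreDimAt_of_isPullback sq' w]

variable {S : Scheme.{u}} {n : ℕ}

/-- Geometric fibres smooth outside finite sets, read on a chart. -/
theorem geomFib_finiteSing_iff {B : CurvSt.SpFamObj S n} (hB : CurvSt.IsCurveFam B) {U : Over S}
    {a : (yon S).obj U ⟶ B.X} {h : U ⟶ B.base} (ha : RepWith @Etale a) (has : RepWith @Surjective a)
    (w : a ≫ B.f = (yon S).map h) :
    CurvSt.GeomFib (fun _ _ _ X' q _ =>
      Set.Finite {x : ↥X' | ¬ ∃ U : X'.Opens, x ∈ U ∧ Smooth (U.ι ≫ q)}) B ↔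
      ∀ u, isoSingCond h.left u := by
  have ht := Groth.Agent.Lib.StCurv.tame_chart hB ha w
  constructor
  · intro H u
    let Ω : Type u := AlgebraicClosure (B.base.left.residueField (h.left u))
    let τ : Spec (CommRingCat.of Ω) ⟶ B.base.left :=
      Spec.map (CommRingCat.ofHom (algebraMap (B.base.left.residueField (h.left u)) Ω)) ≫
        B.base.left.fromSpecResidueField (h.left u)
    obtain ⟨z, hz, -⟩ := Scheme.Pullback.exists_preimage_pullback (f := h.left) (g := τ) u
      (IsLocalRing.closedPoint Ω) (by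
        show h.left u = B.base.left.fromSpecResidueField (h.left u) _
        exact (Scheme.fromSpecResidueField_apply _ _).symm)
    obtain ⟨X', q, i, hP⟩ := exists_fib hB τ
    have hfin := H Ω τ X' q i hP
    obtain ⟨c, _, hcs, hcq⟩ := exists_fib_cover ha has w hP
    have ht' : Tame (c ≫ q) := by
      rw [hcq]; exact ht.baseChange (IsPullback.of_hasPullback h.left τ)
    have htq : Tame q :=
      ⟨Groth.Agent.Lib.SourceDescent.Scheme.flat.descends c q inferInstance hcs ht'.1,
        Groth.Agent.Lib.SourceDescent.Scheme.locallyOfFinitePresentation.descends c q inferInstance hcs ht'.2⟩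
    have hq : isoSingCond q (c z) := by
      haveI : JacobsonSpace ↥(Spec (CommRingCat.of Ω)) := inferInstance
      haveI := htq.2
      haveI : JacobsonSpace ↥X' := LocallyOfFiniteType.jacobsonSpace q
      have hN : IsClosed {x | ¬ smoothCond q x} := (smoothCond_good.isOpen q htq).isClosed_compl
      haveI : Finite {x | ¬ smoothCond q x} := hfin.to_subtype
      haveI : JacobsonSpace {x | ¬ smoothCond q x} :=
        JacobsonSpace.of_isClosedEmbedding hN.isClosedEmbedding_subtypeVal
      haveI : DiscreteTopology {x | ¬ smoothCond q x} := inferInstance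
      by_cases hs : smoothCond q (c z)
      · exact isoSingCond_of_smooth hs
      obtain ⟨O, hO, hOz⟩ := isOpen_discrete ({⟨c z, hs⟩} : Set {x | ¬ smoothCond q x})
      refine ⟨⟨O, hO⟩, ?_, fun x' hx' _ hn => ?_⟩
      · have : (⟨c z, hs⟩ : {x | ¬ smoothCond q x}) ∈ Subtype.val ⁻¹' O := by rw [hOz]; rfl
        exact this
      · have : (⟨x', hn⟩ : {x | ¬ smoothCond q x}) ∈ Subtype.val ⁻¹' O := hx'
        rw [hOz, Set.mem_singleton_iff, Subtype.ext_iff] at this
        exact this
    have h1 := (isoSingCond_good.src c q htq z).2 hq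
    rw [hcq] at h1
    exact hz ▸ (isoSingCond_good.bc (IsPullback.of_hasPullback h.left τ) ht z).1 h1
  · intro H Ω _ _ τ X' q i hP
    obtain ⟨c, _, hcs, hcq⟩ := exists_fib_cover ha has w hP
    have ht' : Tame (c ≫ q) := by
      rw [hcq]; exact ht.baseChange (IsPullback.of_hasPullback h.left τ)
    have htq : Tame q :=
      ⟨Groth.Agent.Lib.SourceDescent.Scheme.flat.descends c q inferInstance hcs ht'.1,
        Groth.Agent.Lib.SourceDescent.Scheme.locallyOfFinitePresentation.descends c q inferInstance hcs ht'.2⟩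
    have hiso : ∀ x, isoSingCond q x := fun x => by
      obtain ⟨z, rfl⟩ := c.surjective x
      refine (isoSingCond_good.src c q htq z).1 ?_
      rw [hcq]
      exact (isoSingCond_good.bc (IsPullback.of_hasPullback h.left τ) ht z).2 (H _)
    haveI : CompactSpace ↥X' := by
      let P : Sp S := (yon S).obj (B.ptOver (q ≫ τ))
      haveI : CompactSpace ↥(B.ptOver τ).left := inferInstanceAs (CompactSpace ↥(Spec (CommRingCat.of Ω)))
      haveI : CompactSpace (Points P) := QC.compactSpace_of_isQuasiCompactMor hB.2.2.1.2.1.2 hP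
      exact (AlgSp.Points.schemeHomeo (B.ptOver (q ≫ τ))).symm.compactSpace
    choose W hW hWx using hiso
    obtain ⟨s, hs⟩ := isCompact_univ.elim_finite_subcover (fun x => (W x : Set X')) (fun x => (W x).2)
      (fun x _ => Set.mem_iUnion.2 ⟨x, hW x⟩)
    refine s.finite_toSet.subset fun x' hx' => ?_
    obtain ⟨x, hx, hx'W⟩ := Set.mem_iUnion₂.1 (hs (Set.mem_univ x'))
    rw [hWx x x' hx'W (Subsingleton.elim _ _) hx']
    exact hx

end Groth.Agent.H8.CurveSpace
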