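import Groth.Agent.H8.CurveSpace.Lqf
import Groth.Agent.S10192
import Groth.Agent.Lib.AlgSpMor.LqfRep
import Groth.Agent.Lib.AlgSpMor.AffineDescent
import Groth.Agent.Lib.AlgSpMor.QC
import Groth.Agent.Lib.AlgSpFpqc.LocP
import Groth.Agent.Lib.AlgSpDecent.GenericFiniteSp
import Groth.Agent.Lib.AlgStack.LargestOpen
import Groth.Agent.Lib.SchTopo.Closure
import Groth.Agent.Lib.ProjSpace.Basic
import Mathlib.AlgebraicGeometry.ZariskisMainTheorem

/-!
# A curve space is covered finitely by a scheme

The closure of a chart in the product of a projective space and a proper space of dimension at most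
one is quasi-finite over both factors.
-/

set_option autoImplicit false
set_option linter.style.haveILetI false
set_option backward.isDefEq.respectTransparency false
set_option backward.isDefEq.respectTransparency.types false

universe u

open CategoryTheory CategoryTheory.Limits AlgebraicGeometry
open Groth.Agent.Lib.AlgSpace Groth.Agent.Lib.AlgSpMor
open Groth.Agent.Lib.PointDim.Basic

namespace Groth.Agent.H8.CurveSpace

open AlgSp (Sp yon RepWith IsAlgSpace IsSeparatedMor IsProperMor LocP Points)
open AlgSp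

/-- A scheme over a field all of whose points have transcendence degree at most one is a curve. -/
theorem topologicalKrullDim_le_one_of_natTdeg {k : Type u} [Field k] {X : Scheme.{u}}
    (f : X ⟶ Spec (CommRingCat.of k)) [LocallyOfFiniteType f] (h : ∀ x, natTdeg f x ≤ 1) :
    topologicalKrullDim X ≤ 1 := by
  rw [Groth.Agent.Lib.SchTopo.Basic.topologicalKrullDim_eq_krullDim_scheme]
  refine iSup_le fun p => ?_
  by_contra hp
  have hlen : 2 ≤ p.length := by
    by_contra h2
    exact hp (by exact_mod_cast Nat.lt_succ_iff.1 (not_le.1 h2))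
  have h01 : p ⟨0, by omega⟩ < p ⟨1, by omega⟩ := p.strictMono (by simp [Fin.lt_def])
  have h12 : p ⟨1, by omega⟩ < p ⟨2, by omega⟩ := p.strictMono (by simp [Fin.lt_def])
  set a := p ⟨2, by omega⟩
  set b := p ⟨1, by omega⟩
  set c := p ⟨0, by omega⟩
  have h4 := Groth.Agent.H97.CurveProj.two_le_dim (a := a) (b := b) (c := c) h12.le
    (fun e => h12.ne e.symm) h01.le (fun e => h01.ne e.symm) (closure {a}) (subset_closure rfl)
    (specializes_iff_mem_closure.1 h12.le)
    (specializes_iff_mem_closure.1 ((show a ⤳ b from h12.le).trans h01.le))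
  rw [topologicalKrullDim_closure_singleton f] at h4
  have h5 : 2 ≤ natTdeg f a := by exact_mod_cast h4
  have := h a
  omega

/-- The points of a scheme over a field of dimension at most one have transcendence degree at most one. -/
theorem natTdeg_le_one {k : Type u} [Field k] {X : Scheme.{u}}
    (f : X ⟶ Spec (CommRingCat.of k)) [LocallyOfFiniteType f] (h : topologicalKrullDim X ≤ 1)
    (x : X) : natTdeg f x ≤ 1 := by
  have e := topologicalKrullDim_closure_singleton f x
  have l := (topologicalKrullDim_subspace_le X (closure {x})).trans h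
  rw [e] at l
  exact_mod_cast l

variable {S : Scheme.{u}} {k : Type u} [Field k] {t : Spec (CommRingCat.of k) ⟶ S} {A : Sp S}

/-- A proper morphism of schemes is proper as a morphism of sheaves. -/
theorem isProperMor_yon {X Y : Over S} (g : X ⟶ Y) (h : IsProper g.left) :
    IsProperMor ((yon S).map g) :=
  haveI := h
  ⟨(isSeparatedMor_yon_map_iff g).2 inferInstance,
    ⟨LocP.locP_of_repWith Groth.Agent.Lib.SourceDescent.Scheme.locallyOfFiniteType
      ((repWith_yon_map_iff _ g).2 inferInstance),
     QC.isQuasiCompactMor_of_repWith ((repWith_yon_map_iff _ g).2 inferInstance)⟩,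
    Proper.isUnivClosedMor_of_repWith ((repWith_yon_map_iff _ g).2 inferInstance)⟩

/-- A proper space of dimension at most one over a field is the image of a finite map from a
separated scheme of finite type of dimension at most one. -/
theorem exists_finite_cover (hA : IsAlgSpace A) {f : A ⟶ (yon S).obj (Over.mk t)} (hf : IsProperMor f)
    (hdim : ∀ (U : Over S) (a : (yon S).obj U ⟶ A), RepWith @Etale a → topologicalKrullDim U.left ≤ 1) :
    ∃ (Y : Over S) (q : (yon S).obj Y ⟶ A) (fY : Y ⟶ Over.mk t),
      RepWith @IsFinite q ∧ Function.Surjective (Points.map q) ∧ q ≫ f = (yon S).map fY ∧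
      IsSeparated fY.left ∧ LocallyOfFiniteType fY.left ∧ CompactSpace Y.left ∧
      topologicalKrullDim Y.left ≤ 1 := by
  classical
  haveI : CompactSpace ↥(Over.mk t).left := inferInstanceAs (CompactSpace ↥(Spec (CommRingCat.of k)))
  haveI : IsAffine (Over.mk t).left := inferInstanceAs (IsAffine (Spec (CommRingCat.of k)))
  haveI : CompactSpace (Points A) := QC.compactSpace_of_isQuasiCompactMor hf.2.1.2
    (IsPullback.of_horiz_isIso (fst := 𝟙 A) (snd := f) (f := f) (g := 𝟙 _) ⟨by simp⟩)
  obtain ⟨U, a, hU, ha, has⟩ := QC.exists_affine_atlas hA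
  obtain ⟨m, hm⟩ := (yon S).map_surjective (a ≫ f)
  letI : U.left.Over (Spec (CommRingCat.of k)) := ⟨m.left⟩
  haveI : LocallyOfFiniteType m.left :=
    hf.2.1.1 a (𝟙 _) m ha (AlgSp.repWith_id _ _) (by rw [Category.comp_id, hm])
  haveI : IsAffineHom m.left := inferInstance
  haveI : LocallyOfFiniteType (U.left ↘ Spec (CommRingCat.of k)) := inferInstanceAs (LocallyOfFiniteType m.left)
  haveI : IsAffineHom (U.left ↘ Spec (CommRingCat.of k)) := inferInstanceAs (IsAffineHom m.left)
  obtain ⟨n, i, hi, him⟩ := Groth.Agent.H97.CurveProj.exists_immersion k U.left (hdim U a ha)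
  let Pn : Over S := Over.mk (CohB1.ProjSpace.toSpec n k ≫ t)
  let π : Pn ⟶ Over.mk t := Over.homMk (CohB1.ProjSpace.toSpec n k) rfl
  have hπ : IsProper π.left := inferInstanceAs (IsProper (CohB1.ProjSpace.toSpec n k))
  let iS : U ⟶ Pn := Over.homMk i (by
    show i ≫ CohB1.ProjSpace.toSpec n k ≫ t = U.hom
    rw [← Category.assoc, him]; exact Over.w m)
  haveI : IsImmersion iS.left := hi
  have hiπ : iS ≫ π = m := Over.OverMorphism.ext him
  let F : Sp S := pullback ((yon S).map π) f
  let pP : F ⟶ (yon S).obj Pn := pullback.fst _ _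
  let pA : F ⟶ A := pullback.snd _ _
  have sqF : IsPullback pP pA ((yon S).map π) f := IsPullback.of_hasPullback _ _
  have hF : IsAlgSpace F :=
    isAlgSpace_of_isPullback sqF (IsAlgSpace.yon_obj _).diag (IsAlgSpace.yon_obj _) hA
  let ψ : (yon S).obj U ⟶ F := sqF.lift ((yon S).map iS) a (by
    rw [← Functor.map_comp, hiπ, hm])
  let D : Set (Points F) := closure (Set.range (Points.ofPt ψ))
  obtain ⟨Z, j, hj, hjr, -⟩ := Groth.Agent.S10192.result ⟨F, hF⟩ D isClosed_closure
  let p₁ : Z.obj ⟶ (yon S).obj Pn := j.hom ≫ pP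
  let p₂ : Z.obj ⟶ A := j.hom ≫ pA
  -- the chart of the product
  let PU : Over S := pullback π m
  let u₁ : PU ⟶ Pn := pullback.fst _ _
  let u₂ : PU ⟶ U := pullback.snd _ _
  have sqU : IsPullback u₁ u₂ π m := IsPullback.of_hasPullback _ _
  have sqU' := isPullback_yon sqU
  rw [hm] at sqU'
  let c₀ : (yon S).obj PU ⟶ F := sqF.lift ((yon S).map u₁) ((yon S).map u₂ ≫ a) (by
    rw [sqU'.w, Category.assoc])
  have sq₀ : IsPullback c₀ ((yon S).map u₂) pA a := by
    refine IsPullback.of_right ?_ (sqF.lift_snd _ _ _) sqF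
    rw [sqF.lift_fst]
    exact sqU'
  have hc₀ : RepWith @Etale c₀ := repWith_baseChange sq₀.flip ha
  have hc₀s : RepWith @Surjective c₀ := repWith_baseChange sq₀.flip has
  obtain ⟨G, e, cG, sqG, he⟩ := repWith_exists hj c₀
  haveI : IsClosedImmersion e.left := he
  have hcG : RepWith @Etale cG := repWith_baseChange sqG.flip hc₀
  have hcGs : RepWith @Surjective cG := repWith_baseChange sqG.flip hc₀s
  let g₁ : G ⟶ Pn := e ≫ u₁
  let g₂ : G ⟶ U := e ≫ u₂
  have w₁ : cG ≫ p₁ = (yon S).map g₁ := by
    rw [Functor.map_comp, ← sqF.lift_fst ((yon S).map u₁) ((yon S).map u₂ ≫ a) (by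
      rw [sqU'.w, Category.assoc]), ← Category.assoc, sqG.w, Category.assoc]
  have sq₂ : IsPullback cG ((yon S).map g₂) p₂ a := by
    rw [Functor.map_comp]
    exact sqG.paste_vert sq₀
  -- the diagonal chart
  obtain ⟨R, r₁, r₂, sqR⟩ := exists_isPullback_yon hA.diag a a
  haveI : Etale r₁.left := repWith_property ha sqR.flip
  haveI : Etale r₂.left := repWith_property ha sqR
  have hRm : r₁ ≫ m = r₂ ≫ m := (yon S).map_injective (by
    rw [Functor.map_comp, Functor.map_comp, hm, reassoc_of% sqR.w])
  let ρ₀ : R ⟶ PU := sqU.lift (r₁ ≫ iS) r₂ (by rw [Category.assoc, hiπ, hRm])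
  have sqρ : IsPullback ((yon S).map r₁) ((yon S).map ρ₀) ψ c₀ := by
    refine IsPullback.of_bot ?_ ?_ sq₀
    · rw [← Functor.map_comp, sqU.lift_snd]
      have : ψ ≫ pA = a := sqF.lift_snd _ _ _
      rw [this]
      exact sqR
    · apply sqF.hom_ext
      · rw [Category.assoc, Category.assoc, sqF.lift_fst, sqF.lift_fst, ← Functor.map_comp,
          ← Functor.map_comp, sqU.lift_fst]
      · rw [Category.assoc, Category.assoc, sqF.lift_snd, sqF.lift_snd, ← Category.assoc,
          ← Functor.map_comp, sqU.lift_snd, sqR.w]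
  haveI : CompactSpace R.left := by
    haveI : CompactSpace (ha.rep.pullback a).left :=
      Groth.Agent.Lib.AlgSpDecent.GenericFiniteSp.compactSpace_selfProduct
        (repWith_mono hf.1 fun _ _ g (_ : IsClosedImmersion g) ↦ (inferInstance : QuasiCompact g)) ha.rep
    let φ := ha.rep.lift' r₁ r₂ sqR.w
    haveI : IsIso φ := by
      have h := (sqR.isoIsPullback _ _ (ha.rep.isPullback' a)).hom
      have hφ : (yon S).map φ = (sqR.isoIsPullback _ _ (ha.rep.isPullback' a)).hom := by
        apply (ha.rep.isPullback' a).hom_ext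
        · rw [IsPullback.isoIsPullback_hom_fst, ← Functor.map_comp, ha.rep.lift'_fst]
        · rw [IsPullback.isoIsPullback_hom_snd, ← Functor.map_comp, ha.rep.lift'_snd]
      haveI : IsIso ((yon S).map φ) := by rw [hφ]; infer_instance
      exact isIso_of_reflects_iso φ (yon S)
    haveI : IsIso φ.left := inferInstanceAs (IsIso ((Over.forget S).map φ))
    exact (asIso φ.left).schemeIsoToHomeo.symm.compactSpace
  -- the closure, chartwise
  have hrange : Set.range e.left = closure (Set.range ρ₀.left) := by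
    have h1 : Set.range e.left = Points.ofPt c₀ ⁻¹' D := by
      have h := Groth.Agent.Lib.AlgStack.LargestOpen.range_map_pullback sqG
      rw [hjr] at h
      ext z
      constructor
      · rintro ⟨w, rfl⟩
        show Points.ofPt c₀ (e.left w) ∈ D
        rw [← Groth.Agent.Lib.AlgSpDecent.Core.ofPt_map_comp, ← sqG.w, Groth.Agent.Lib.AlgSpDecent.Core.ofPt_comp, ← hjr]
        exact ⟨_, rfl⟩
      · intro hz
        have hz' : Points.map c₀ (Points.ofScheme PU z) ∈ D := by
          rwa [← AlgSp.Points.ofPt_eq_map_ofScheme]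
        obtain ⟨w, hw⟩ := h.ge hz'
        obtain ⟨w', rfl⟩ := (Points.schemeHomeo G).surjective w
        exact ⟨w', (Points.schemeHomeo PU).injective (by
          exact (AlgSp.Points.map_yon_map_apply e w').symm.trans hw)⟩
    have h2 : Set.range ρ₀.left = Points.ofPt c₀ ⁻¹' Set.range (Points.ofPt ψ) := by
      ext z
      constructor
      · rintro ⟨w, rfl⟩
        exact ⟨r₁.left w, Groth.Agent.Lib.AlgSpDecent.Core.ofPt_eq_of_scheme_isPullback sqρ.w _ rfl w⟩
      · rintro ⟨v, hv⟩
        obtain ⟨w, -, hw⟩ := Groth.Agent.Lib.AlgSpDecent.Core.exists_point_of_scheme_isPullback sqρ v z hv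
        exact ⟨w, hw⟩
    rw [h1, h2]
    exact ((Groth.Agent.Lib.AlgSpDecent.Core.isOpenMap_ofPt hc₀).preimage_closure_eq_closure_preimage
      (Points.continuous_ofPt c₀) _)
  let R' : Scheme.{u} := pullback ρ₀.left e.left
  let ρ : R' ⟶ G.left := pullback.snd _ _
  let ν : R' ⟶ R.left := pullback.fst _ _
  haveI : IsClosedImmersion ν := MorphismProperty.pullback_fst _ _ he
  have hνρ : ν ≫ ρ₀.left = ρ ≫ e.left := pullback.condition
  haveI : QuasiCompact ν := inferInstance
  haveI : CompactSpace R' := QuasiCompact.compactSpace_of_compactSpace ν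
  haveI : IsSeparated u₂.left := by
    have h : IsPullback u₁.left u₂.left π.left m.left := sqU.map (Over.forget S)
    exact MorphismProperty.of_isPullback (P := @IsSeparated) h inferInstance
  haveI : U.left.IsSeparated := inferInstance
  haveI : PU.left.IsSeparated := ⟨by rw [← terminal.comp_from u₂.left]; infer_instance⟩
  haveI : G.left.IsSeparated := ⟨by rw [← terminal.comp_from e.left]; infer_instance⟩
  haveI : QuasiCompact ρ := by
    haveI : QuasiCompact (ρ ≫ terminal.from G.left) := by
      rw [terminal.comp_from]; exact ((compactSpace_iff_quasiCompact R').1 inferInstance)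
    exact QuasiCompact.of_comp ρ (terminal.from G.left)
  have hgen : ∀ η : G.left, Groth.Agent.H97.AffineImages.IsGen η → η ∈ Set.range ρ := by
    intro η hη
    refine Groth.Agent.Lib.SchTopo.Closure.mem_range_of_mem_closure_range ρ hη ?_
    have hη' : e.left η ∈ closure (Set.range ρ₀.left) := hrange ▸ Set.mem_range_self η
    rw [e.left.isClosedEmbedding.isInducing.closure_eq_preimage_closure_image]
    refine closure_mono ?_ hη'
    rintro _ ⟨r, rfl⟩
    obtain ⟨g, hg⟩ : ρ₀.left r ∈ Set.range e.left := hrange ▸ subset_closure ⟨r, rfl⟩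
    obtain ⟨r', -, hr'⟩ := Scheme.Pullback.exists_preimage_pullback (f := ρ₀.left) (g := e.left) r g hg.symm
    exact ⟨g, ⟨r', hr'⟩, hg⟩
  have hdimR : topologicalKrullDim R' ≤ 1 :=
    (ν.isClosedEmbedding.isInducing.topologicalKrullDim_le).trans
      (hdim R ((yon S).map r₁ ≫ a) (LocP.repWith_etale_comp r₁ ha))
  have hρ₁ : ρ ≫ g₁.left = (ν ≫ r₁.left) ≫ i := by
    have h := congrArg CommaMorphism.left (sqU.lift_fst (r₁ ≫ iS) r₂ (by rw [Category.assoc, hiπ, hRm]))
    simp only [Over.comp_left] at h
    simp only [g₁, Over.comp_left, ← Category.assoc, ← hνρ]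
    rw [Category.assoc ν, h, Category.assoc]
    rfl
  have hρ₂ : ρ ≫ g₂.left = ν ≫ r₂.left := by
    have h := congrArg CommaMorphism.left (sqU.lift_snd (r₁ ≫ iS) r₂ (by rw [Category.assoc, hiπ, hRm]))
    simp only [Over.comp_left] at h
    simp only [g₂, Over.comp_left, ← Category.assoc, ← hνρ]
    rw [Category.assoc ν, h]
  haveI : LocallyQuasiFinite ν := Sep.locallyQuasiFinite_of_mono ν
  haveI : LocallyQuasiFinite i := Sep.locallyQuasiFinite_of_mono i
  haveI : LocallyQuasiFinite r₁.left := Groth.Agent.Lib.SourceDescent.Scheme.locallyQuasiFinite.etale _ inferInstance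
  haveI : LocallyQuasiFinite r₂.left := Groth.Agent.Lib.SourceDescent.Scheme.locallyQuasiFinite.etale _ inferInstance
  haveI : LocallyQuasiFinite (ρ ≫ g₁.left) := by rw [hρ₁]; infer_instance
  haveI : LocallyOfFiniteType (ρ ≫ g₁.left) := by rw [hρ₁]; infer_instance
  haveI : LocallyQuasiFinite (ρ ≫ g₂.left) := by rw [hρ₂]; infer_instance
  haveI : LocallyOfFiniteType (ρ ≫ g₂.left) := by rw [hρ₂]; infer_instance
  have sqUl : IsPullback u₁.left u₂.left π.left m.left := sqU.map (Over.forget S)
  haveI : IsProper u₂.left := MorphismProperty.of_isPullback (P := @IsProper) sqUl hπ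
  haveI : LocallyOfFiniteType u₁.left :=
    MorphismProperty.of_isPullback (P := @LocallyOfFiniteType) sqUl.flip inferInstance
  haveI : IsProper g₂.left := inferInstanceAs (IsProper (e.left ≫ u₂.left))
  haveI : LocallyOfFiniteType g₁.left := inferInstanceAs (LocallyOfFiniteType (e.left ≫ u₁.left))
  haveI : LocallyOfFiniteType π.left := inferInstance
  haveI : LocallyQuasiFinite g₁.left := Lqf.locallyQuasiFinite_of_dense π.left g₁.left ρ hgen hdimR
  haveI : LocallyQuasiFinite g₂.left := Lqf.locallyQuasiFinite_of_dense m.left g₂.left ρ hgen hdimR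
  haveI : IsFinite g₂.left := IsFinite.of_isProper_of_locallyQuasiFinite _
  -- the closure is a scheme
  have hp₁ : LocP (@LocallyQuasiFinite ⊓ @LocallyOfFiniteType) p₁ :=
    Groth.Agent.Lib.AlgSpFpqc.LocP.locP_of_chart_to_yon
      (Groth.Agent.Lib.SourceDescent.Scheme.inf Groth.Agent.Lib.SourceDescent.Scheme.locallyQuasiFinite
        Groth.Agent.Lib.SourceDescent.Scheme.locallyOfFiniteType) Z.property hcG hcGs w₁ ⟨inferInstance, inferInstance⟩
  have hsep₁ : IsSeparatedMor p₁ :=
    Proper.repWith_diagonal_comp _ (Proper.isProperMor_of_closedImmersion hj).1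
      (Sep.repWith_diagonal_baseChange sqF.flip hf.1)
  obtain ⟨Y, ⟨ε⟩⟩ := LqfRep.exists_iso Z.property p₁ hp₁ hsep₁
  let q : (yon S).obj Y ⟶ A := ε.hom ≫ p₂
  obtain ⟨c, hc⟩ := (yon S).map_surjective (cG ≫ ε.inv)
  obtain ⟨fY, hfY⟩ := (yon S).map_surjective (q ≫ f)
  have sqY : IsPullback ((yon S).map c) ((yon S).map g₂) q a := by
    refine IsPullback.of_iso sq₂ (Iso.refl _) ε.symm (Iso.refl _) (Iso.refl _) ?_ ?_ ?_ ?_ <;>
      simp [q, hc]
  have hqs : Function.Surjective (Points.map q) := by
    intro x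
    obtain ⟨v, rfl⟩ := Groth.Agent.Lib.AlgSpDecent.Core.surjective_ofPt has x
    have hmem : Points.ofPt ψ v ∈ Set.range (Points.map j.hom) := hjr.symm ▸ subset_closure ⟨v, rfl⟩
    obtain ⟨z, hz⟩ := hmem
    refine ⟨Points.map ε.inv z, ?_⟩
    rw [← AlgSp.Points.map_comp, Iso.inv_hom_id_assoc, AlgSp.Points.map_comp, hz,
      ← Groth.Agent.Lib.AlgSpDecent.Core.ofPt_comp, sqF.lift_snd]
  have hcs : Function.Surjective c.left := by
    intro y
    have hsur := Groth.Agent.Lib.AlgSpDecent.Core.surjective_ofPt hcGs (Points.map ε.hom (Points.ofScheme Y y))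
    obtain ⟨z, hz⟩ := hsur
    refine ⟨z, (Points.schemeHomeo Y).injective ?_⟩
    rw [← AlgSp.Points.map_yon_map_apply c z]
    show Points.map _ (Points.ofScheme G z) = Points.ofScheme Y y
    rw [hc, AlgSp.Points.map_comp,
      ← AlgSp.Points.ofPt_eq_map_ofScheme, hz, ← AlgSp.Points.map_comp, Iso.hom_inv_id,
      AlgSp.Points.map_id]
  haveI := AffineDescent.isLocalAtTarget_isFinite.{u}
  have hq : RepWith @IsFinite q :=
    RepDescent.repWith_of_cover @IsFinite
      (fun A' B' p hp D hD => AffineDescent.effective_isFinite p hp D hD) hA.diag ha has sqY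
      ((repWith_yon_map_iff _ g₂).2 (inferInstance : IsFinite g₂.left))
  have hqP : IsProperMor q := by
    refine Proper.isProperMor_comp (IsAlgSpace.yon_obj Y) Z.property hA ?_ ?_
    · exact Proper.isProperMor_of_closedImmersion (repWith_of_isIso _ ε.hom)
    · exact Proper.isProperMor_comp Z.property hF hA (Proper.isProperMor_of_closedImmersion hj)
        (Proper.isProperMor_baseChange (IsAlgSpace.yon_obj Pn) (IsAlgSpace.yon_obj _) hA sqF
          (isProperMor_yon π hπ))
  have hqf : IsProperMor ((yon S).map fY) := by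
    rw [hfY]
    exact Proper.isProperMor_comp (IsAlgSpace.yon_obj Y) hA (IsAlgSpace.yon_obj _) hqP hf
  haveI : LocallyOfFiniteType fY.left := hqf.2.1.1 (𝟙 _) (𝟙 _) fY (AlgSp.repWith_id _ _)
    (AlgSp.repWith_id _ _) (by simp)
  haveI : CompactSpace G.left := by
    haveI : CompactSpace U.left := inferInstance
    exact QuasiCompact.compactSpace_of_compactSpace g₂.left
  refine ⟨Y, q, fY, hq, hqs, hfY.symm, (isSeparatedMor_yon_map_iff fY).1 hqf.1, inferInstance, ?_, ?_⟩
  · exact ⟨by rw [← hcs.range_eq]; exact isCompact_range c.left.continuous⟩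
  · refine topologicalKrullDim_le_one_of_natTdeg fY.left fun y => ?_
    obtain ⟨z, rfl⟩ := hcs y
    have hcf : c.left ≫ fY.left = g₂.left ≫ m.left := by
      have h : c ≫ fY = g₂ ≫ m := (yon S).map_injective (by
        rw [Functor.map_comp, Functor.map_comp, hfY, hm, reassoc_of% sqY.w])
      exact congrArg CommaMorphism.left h
    haveI : LocallyOfFiniteType (c.left ≫ fY.left) := by rw [hcf]; infer_instance
    refine (Lqf.natTdeg_map_le c.left fY.left z).trans ?_
    rw [hcf, Lqf.natTdeg_map_eq g₂.left m.left z]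
    exact natTdeg_le_one m.left (hdim U a ha) _

end Groth.Agent.H8.CurveSpace
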