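import Groth.Agent.Lib.PointDim.Basic
import Groth.Agent.H97.CurveProj
import Groth.Agent.H97.AffineImages
import Groth.Agent.Lib.Unram.SepDegreeEtale
import Mathlib.AlgebraicGeometry.Morphisms.QuasiFinite

/-!
# Quasi-finiteness of a morphism dominated by a quasi-finite one from a curve
-/

set_option autoImplicit false
set_option backward.isDefEq.respectTransparency false
set_option backward.isDefEq.respectTransparency.types false

universe u

open CategoryTheory CategoryTheory.Limits AlgebraicGeometry

namespace Groth.Agent.H8.CurveSpace.Lqf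

open Groth.Agent.Lib.PointDim.Basic

variable {k : Type u} [Field k]

/-- A locally Noetherian scheme all of whose points are closed is discrete. -/
theorem discreteTopology_of_isLocallyNoetherian (Z : Scheme.{u}) [IsLocallyNoetherian Z] [T1Space Z] :
    DiscreteTopology Z := by
  refine discreteTopology_iff_isOpen_singleton.2 fun z => ?_
  obtain ⟨W, hW, hzW, -⟩ := exists_isAffineOpen_mem_and_subset (U := ⊤) (Set.mem_univ z)
  haveI := IsLocallyNoetherian.component_noetherian (X := Z) ⟨W, hW⟩
  haveI : TopologicalSpace.NoetherianSpace W := noetherianSpace_of_isAffineOpen W hW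
  haveI : QuasiSober (W : Type u) := W.2.isOpenEmbedding_subtypeVal.quasiSober
  haveI : T1Space (W : Type u) := Topology.IsEmbedding.subtypeVal.t1Space
  have hinj : Function.Injective fun w : (W : Type u) => closure ({w} : Set (W : Type u)) := fun a b h => by
    simpa [closure_singleton] using h
  haveI : Finite (W : Type u) := by
    haveI := (TopologicalSpace.NoetherianSpace.finite_irreducibleComponents (α := (W : Type u))).to_subtype
    exact Finite.of_injective (fun w : (W : Type u) => (⟨closure {w}, ⟨isIrreducible_singleton.closure,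
      fun T hT hle => by
        obtain ⟨η, hη⟩ := QuasiSober.sober hT.closure isClosed_closure
        rw [IsGenericPoint, closure_singleton] at hη
        rw [closure_singleton] at hle ⊢
        intro t ht
        have h1 : t ∈ ({η} : Set (W : Type u)) := hη ▸ subset_closure ht
        have h2 : w ∈ ({η} : Set (W : Type u)) := hη ▸ subset_closure (hle rfl)
        exact h1.trans h2.symm⟩⟩ : irreducibleComponents (W : Type u)))
      fun a b h => hinj (congrArg Subtype.val h)
  have h3 : IsOpen ({(⟨z, hzW⟩ : (W : Type u))} : Set (W : Type u)) := isOpen_discrete _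
  have h4 := W.2.isOpenMap_subtype_val _ h3
  rwa [Set.image_singleton] at h4

/-- The transcendence degree does not grow along a morphism. -/
theorem natTdeg_map_le {X Y : Scheme.{u}} (g : X ⟶ Y) (fY : Y ⟶ Spec (CommRingCat.of k))
    [LocallyOfFiniteType (g ≫ fY)] (x : X) :
    natTdeg fY (g x) ≤ natTdeg (g ≫ fY) x := by
  letI : Algebra k (X.residueField x) := (kToRes (g ≫ fY) x).hom.toAlgebra
  letI : Algebra k (Y.residueField (g x)) := (kToRes fY (g x)).hom.toAlgebra
  letI : Algebra (Y.residueField (g x)) (X.residueField x) := (g.residueFieldMap x).hom.toAlgebra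
  haveI : IsScalarTower k (Y.residueField (g x)) (X.residueField x) :=
    IsScalarTower.of_algebraMap_eq fun a => congr($(kToRes_comp g fY _ rfl x).hom a)
  have h := trdeg_add_eq k (Y.residueField (g x)) (A := X.residueField x)
  have hle : tdeg fY (g x) ≤ tdeg (g ≫ fY) x := le_trans le_self_add h.le
  refine Cardinal.toNat_le_toNat hle ?_
  rw [tdeg_eq_natTdeg (g ≫ fY) x]
  exact Cardinal.natCast_lt_aleph0

/-- A quasi-finite morphism preserves the transcendence degree. -/
theorem natTdeg_map_eq {X Y : Scheme.{u}} (g : X ⟶ Y) [LocallyQuasiFinite g] [LocallyOfFiniteType g]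
    (fY : Y ⟶ Spec (CommRingCat.of k)) (x : X) :
    natTdeg (g ≫ fY) x = natTdeg fY (g x) := by
  refine congrArg Cardinal.toNat (tdeg_comp_of_finite g fY _ rfl x ?_)
  letI : Algebra (Y.residueField (g x)) (X.residueField x) := (g.residueFieldMap x).hom.toAlgebra
  haveI : Module.Finite (Y.residueField (g x)) (X.residueField x) :=
    RingHom.finite_algebraMap.1
      (Groth.Agent.Lib.Unram.SepDegreeEtale.residueFieldMap_finite_of_quasiFiniteAt g x (g.quasiFiniteAt x))
  infer_instance

/-- A morphism dominated by a quasi-finite one from a curve is quasi-finite. -/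
theorem locallyQuasiFinite_of_dense {R G V : Scheme.{u}} (fV : V ⟶ Spec (CommRingCat.of k))
    (g : G ⟶ V) [LocallyOfFiniteType g] [LocallyOfFiniteType (g ≫ fV)] [LocallyOfFiniteType fV]
    (ρ : R ⟶ G) [LocallyQuasiFinite (ρ ≫ g)] [LocallyOfFiniteType (ρ ≫ g)]
    (hgen : ∀ η : G, Groth.Agent.H97.AffineImages.IsGen η → η ∈ Set.range ρ)
    (hdim : topologicalKrullDim R ≤ 1) :
    LocallyQuasiFinite g := by
  refine locallyQuasiFinite_iff_isDiscrete_preimage_singleton.2 fun v => ?_
  haveI : LocallyOfFiniteType (ρ ≫ g ≫ fV) := by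
    rw [← Category.assoc]; infer_instance
  -- no specializations inside a fibre
  have key : ∀ z z' : G, g z = g z' → z ⤳ z' → z = z' := by
    intro z z' hzz h
    by_contra hne
    obtain ⟨η, hη, hηz⟩ := Groth.Agent.H97.AffineImages.exists_gen_specializes z
    obtain ⟨r, rfl⟩ := hgen η hη
    have h1 : natTdeg (g ≫ fV) (ρ r) ≤ natTdeg (ρ ≫ g ≫ fV) r := natTdeg_map_le ρ (g ≫ fV) r
    have h2 : natTdeg (ρ ≫ g ≫ fV) r = natTdeg fV (g (ρ r)) := by
      rw [← Category.assoc]
      exact natTdeg_map_eq (ρ ≫ g) fV r
    have h3 : natTdeg (ρ ≫ g ≫ fV) r ≤ 1 := by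
      have e := topologicalKrullDim_closure_singleton (ρ ≫ g ≫ fV) r
      have l := (topologicalKrullDim_subspace_le R (closure {r})).trans hdim
      rw [e] at l
      exact_mod_cast l
    have heq : ρ r = z := by
      by_contra hne'
      have h4 := Groth.Agent.H97.CurveProj.two_le_dim hηz hne' h hne (closure {ρ r})
        (subset_closure rfl) (specializes_iff_mem_closure.1 hηz)
        (specializes_iff_mem_closure.1 (hηz.trans h))
      rw [topologicalKrullDim_closure_singleton (g ≫ fV)] at h4
      have h5 : 2 ≤ natTdeg (g ≫ fV) (ρ r) := by exact_mod_cast h4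
      omega
    subst heq
    have h6 : natTdeg (g ≫ fV) (ρ r) ≠ 0 := fun h0 => hne
      (((isClosed_iff_natTdeg_eq_zero (g ≫ fV) (ρ r)).2 h0).closure_subset
        (specializes_iff_mem_closure.1 h)).symm
    have h7 : natTdeg (g ≫ fV) z' = 0 := by
      refine (isClosed_iff_natTdeg_eq_zero (g ≫ fV) z').1 ?_
      rw [← closure_subset_iff_isClosed]
      intro w hw
      by_contra hw'
      have h4 := Groth.Agent.H97.CurveProj.two_le_dim h hne (specializes_iff_mem_closure.2 hw)
        (fun e => hw' e.symm) (closure {ρ r})
        (subset_closure rfl) (specializes_iff_mem_closure.1 h)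
        (specializes_iff_mem_closure.1 (h.trans (specializes_iff_mem_closure.2 hw)))
      rw [topologicalKrullDim_closure_singleton (g ≫ fV)] at h4
      have h5 : 2 ≤ natTdeg (g ≫ fV) (ρ r) := by exact_mod_cast h4
      omega
    have h8 : natTdeg fV (g (ρ r)) ≤ natTdeg (g ≫ fV) z' := by
      rw [hzz]; exact natTdeg_map_le g fV z'
    omega
  -- the fibre is discrete
  haveI : LocallyOfFiniteType (g.fiberToSpecResidueField v) := MorphismProperty.pullback_snd _ _ ‹LocallyOfFiniteType g›
  haveI : T1Space (g.fiber v) := ⟨fun a => by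
    rw [← closure_subset_iff_isClosed]
    intro b hb
    have hs : (g.fiberι v) a ⤳ (g.fiberι v) b :=
      (specializes_iff_mem_closure.2 hb).map (g.fiberι v).continuous
    have hv : ∀ c : g.fiber v, g ((g.fiberι v) c) = v := fun c => (g.fiberHomeo v c).2
    exact (g.fiberι v).injective (key _ _ ((hv a).trans (hv b).symm) hs).symm⟩
  haveI : IsLocallyNoetherian (g.fiber v) :=
    LocallyOfFiniteType.isLocallyNoetherian (g.fiberToSpecResidueField v)
  haveI : DiscreteTopology (g.fiber v) := discreteTopology_of_isLocallyNoetherian (g.fiber v)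
  haveI := (g.fiberHomeo v).discreteTopology
  exact ⟨inferInstance⟩

end Groth.Agent.H8.CurveSpace.Lqf
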