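import Groth.Agent.H8.CurveSpace.Fibre
import Groth.Agent.H46.GRAt
import Groth.Agent.S2549
import Groth.Agent.Lib.AlgSpRed.Stalk
import Groth.Agent.Lib.Flat55.ComponentModel

/-!
# Families of curves with geometrically reduced fibres
-/

set_option autoImplicit false
set_option linter.style.haveILetI false
set_option backward.isDefEq.respectTransparency false
set_option backward.isDefEq.respectTransparency.types false

universe u

open CategoryTheory CategoryTheory.Limits AlgebraicGeometry
open Groth.Agent.Lib.AlgSpace Groth.Agent.Lib.AlgSpMor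
open Groth.Agent.H46.GRAt

namespace Groth.Agent.H8.CurveSpace

open AlgSp (Sp yon RepWith IsAlgSpace LocP Points)
open Groth.Agent.Lib.StCurv (PtCond Tame)

/-- The fibre is geometrically reduced at the point. -/
abbrev grCond : PtCond.{u} := fun _ _ f x => GRAt f x

theorem grCond_good : grCond.{u}.Good where
  isOpen {X Y} f h := by
    have := h.1; have := h.2
    have e : {x | grCond f x} =
        {x : X | FBase.IsGeomReducedAt (f.fiberToSpecResidueField (f x)) (f.asFiber x)} :=
      Set.ext fun x => grAt_iff f x
    rw [e]
    exact Groth.Agent.S2549.result f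
  src {X' X Y} p _ f _ z := by
    have sqP : ∀ {K : Type u} [Field K] (g : Spec (CommRingCat.of K) ⟶ Y),
        IsPullback (pullback.fst p (pullback.fst f g)) (pullback.snd p (pullback.fst f g) ≫ pullback.snd f g)
          (p ≫ f) g := fun g =>
      (IsPullback.of_hasPullback p (pullback.fst f g)).paste_vert (IsPullback.of_hasPullback f g)
    constructor
    · intro h K _ g p' hp'
      obtain ⟨w, hw₁, hw₂⟩ := Scheme.Pullback.exists_preimage_pullback (f := p) (g := pullback.fst f g)
        z p' hp'.symm
      rw [← hw₂]
      exact isReduced_stalk_of_flat _ w (isReduced_of_isPullback h (sqP g) w hw₁)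
    · intro h K _ g q hq
      let e := (sqP g).isoPullback
      let w := e.inv q
      have hw : p (pullback.fst p (pullback.fst f g) w) = pullback.fst f g (pullback.snd p (pullback.fst f g) w) := by
        rw [← Scheme.Hom.comp_apply, pullback.condition, Scheme.Hom.comp_apply]
      have hz : pullback.fst p (pullback.fst f g) w = z := by
        show pullback.fst p (pullback.fst f g) (e.inv q) = z
        rw [← Scheme.Hom.comp_apply, (sqP g).isoPullback_inv_fst, hq]
      rw [hz] at hw
      haveI : _root_.IsReduced ((pullback f g).presheaf.stalk (pullback.snd p (pullback.fst f g) w)) :=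
        h K g _ hw.symm
      have hr := Groth.Agent.Lib.AlgSpRed.Stalk.reduced_of_etale (pullback.snd p (pullback.fst f g)) w
      have h2 := isReduced_stalk_of_iso' e.hom w hr
      rwa [show e.hom w = q by
        show e.hom (e.inv q) = q
        rw [← Scheme.Hom.comp_apply, e.inv_hom_id]; rfl] at h2
  bc sq _ z := ⟨of_baseChange sq z, baseChange sq z⟩

variable {S : Scheme.{u}} {n : ℕ}

/-- All geometric fibres are reduced iff the fibres of a chart are geometrically reduced. -/
theorem geomFib_isReduced_iff {B : CurvSt.SpFamObj S n} (hB : CurvSt.IsCurveFam B) {U : Over S}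
    {a : (yon S).obj U ⟶ B.X} {h : U ⟶ B.base} (ha : RepWith @Etale a) (has : RepWith @Surjective a)
    (w : a ≫ B.f = (yon S).map h) :
    CurvSt.GeomFib (fun _ _ _ X' _ _ => IsReduced X') B ↔ ∀ u, grCond h.left u := by
  constructor
  · intro H u K _ g p _
    let Ω : Type u := AlgebraicClosure K
    let σ : Spec (CommRingCat.of Ω) ⟶ Spec (CommRingCat.of K) :=
      Spec.map (CommRingCat.ofHom (algebraMap K Ω))
    haveI : Flat σ := flat_specMap_field _
    haveI : Surjective σ := ⟨fun x => ⟨IsLocalRing.closedPoint Ω, Subsingleton.elim _ _⟩⟩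
    obtain ⟨X', q, i, hP⟩ := exists_fib hB (σ ≫ g)
    haveI : IsReduced X' := H Ω (σ ≫ g) X' q i hP
    obtain ⟨c, hc, -, -⟩ := exists_fib_cover ha has w hP
    haveI : IsReduced (pullback h.left (σ ≫ g)) :=
      Groth.Agent.Lib.Flat55.ComponentModel.isReduced_of_etale c
    let e := pullbackLeftPullbackSndIso h.left g σ
    obtain ⟨z, hz, -⟩ := Scheme.Pullback.exists_preimage_pullback (f := pullback.snd h.left g) (g := σ)
      p (IsLocalRing.closedPoint Ω) (Subsingleton.elim _ _)
    rw [← hz]
    refine isReduced_stalk_of_flat (pullback.fst (pullback.snd h.left g) σ) z ?_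
    haveI : Flat (pullback.fst (pullback.snd h.left g) σ) :=
      MorphismProperty.pullback_fst _ _ ‹Flat σ›
    exact isReduced_stalk_of_iso e.hom z inferInstance
  · intro H Ω _ _ τ X' q i hP
    obtain ⟨c, _, hcs, -⟩ := exists_fib_cover ha has w hP
    haveI : ∀ x : X', _root_.IsReduced (X'.presheaf.stalk x) := fun x => by
      obtain ⟨z, rfl⟩ := c.surjective x
      exact isReduced_stalk_of_flat c z (H _ Ω τ z rfl)
    exact isReduced_of_isReduced_stalk X'

end Groth.Agent.H8.CurveSpace
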