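import Groth.Agent.H8.CurveSpace.Reduced
import Groth.Agent.H2.FibreDimPullback
import Groth.Agent.Lib.StCurv.CohenMacaulay
import Groth.Agent.H54.CMFieldExt

/-!
# Families of curves with reduced geometric fibres are Cohen–Macaulay
-/

set_option autoImplicit false
set_option linter.style.haveILetI false
set_option backward.isDefEq.respectTransparency false
set_option backward.isDefEq.respectTransparency.types false

universe u

open CategoryTheory CategoryTheory.Limits AlgebraicGeometry IsLocalRing
open Groth.Agent.Lib.AlgSpace Groth.Agent.Lib.AlgSpMor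

namespace Groth.Agent.H8.CurveSpace

open AlgSp (Sp yon RepWith IsAlgSpace LocP Points)

/-- A reduced Noetherian local ring of dimension at most one is Cohen–Macaulay. -/
theorem isCohenMacaulayLocalRing_of_reduced {R : Type u} [CommRing R] [IsNoetherianRing R] [IsLocalRing R]
    [_root_.IsReduced R] (hd : ringKrullDim R ≤ 1) : LocCoh.IsCohenMacaulayLocalRing R := by
  classical
  by_cases hm : maximalIdeal R ∈ minimalPrimes R
  · refine Groth.Agent.H54.CMFieldExt.isCohenMacaulayLocalRing_of_isField
      (IsLocalRing.isField_iff_maximalIdeal_eq.2 ?_)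
    refine le_bot_iff.1 ((le_sInf fun P (hP : P.IsPrime) => ?_ : maximalIdeal R ≤ sInf {P : Ideal R | P.IsPrime}).trans ?_)
    · exact hm.2 ⟨hP, bot_le⟩ (IsLocalRing.le_maximalIdeal hP.ne_top)
    · rw [← nilradical_eq_sInf, nilradical_eq_zero]; rfl
  · obtain ⟨x, hxm, hx⟩ : ∃ x ∈ maximalIdeal R, ∀ p ∈ minimalPrimes R, x ∉ p := by
      by_contra hcon
      push Not at hcon
      have hsub : (maximalIdeal R : Set R) ⊆ ⋃ p ∈ (minimalPrimes.finite_of_isNoetherianRing R).toFinset, (p : Set R) := by
        intro x hx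
        obtain ⟨p, hp, hxp⟩ := hcon x hx
        exact Set.mem_biUnion ((Set.Finite.mem_toFinset _).2 hp) hxp
      obtain ⟨p, hp, hle⟩ := (Ideal.subset_union_prime (f := id) ⊥ ⊥
        (fun p hp _ _ => ((Set.Finite.mem_toFinset _).1 hp).1.1)).1 hsub
      have hp' := (Set.Finite.mem_toFinset _).1 hp
      have he : p = maximalIdeal R := le_antisymm (IsLocalRing.le_maximalIdeal hp'.1.1.ne_top) hle
      exact hm (he ▸ hp')
    have hreg : IsSMulRegular R x := by
      refine isSMulRegular_iff_right_eq_zero_of_smul.2 fun y hy => ?_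
      have h0 : y ∈ nilradical R := by
        rw [nilradical, ← Ideal.sInf_minimalPrimes, Ideal.mem_sInf]
        intro p hp
        haveI := hp.1.1
        exact ((Ideal.IsPrime.mem_or_mem inferInstance
          (show x * y ∈ p by rw [← smul_eq_mul, hy]; exact zero_mem p))).resolve_left (hx p hp)
      simpa using h0
    refine Groth.Agent.Lib.Depth.CM.isCohenMacaulayLocalRing_iff.2 (hd.trans ?_)
    have hle := Groth.Agent.Lib.Depth.Basic.length_le_idealDepth (M := R) (rs := [x]) (I := maximalIdeal R)
      ((RingTheory.Sequence.isWeaklyRegular_singleton_iff R x).2 hreg) (by simpa using hxm)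
    exact WithBot.coe_le_coe.mpr (by simpa [LocCoh.depth] using hle)

/-- A reduced curve over a field is Cohen–Macaulay. -/
theorem isCMAt_of_reduced {k : Type u} [Field k] {Z : Scheme.{u}} (q : Z ⟶ Spec (CommRingCat.of k))
    [LocallyOfFiniteType q] [Flat q] (hdim : topologicalKrullDim Z ≤ 1) [IsReduced Z] (x : Z) :
    MoreMor.IsCMAt q x := by
  rw [Groth.Agent.H54.CMMor.isCMAt_iff]
  haveI : IsLocallyNoetherian Z := LocallyOfFiniteType.isLocallyNoetherian q
  have hF : IsField ((Spec (CommRingCat.of k)).presheaf.stalk (q x)) := by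
    have : ringKrullDim ((Spec (CommRingCat.of k)).presheaf.stalk (q x)) ≤ 0 := by
      rw [← PrimeSpectrum.topologicalKrullDim_eq_ringKrullDim]
      refine ((Spec (CommRingCat.of k)).fromSpecStalk (q x)).isEmbedding.isInducing.topologicalKrullDim_le.trans ?_
      show topologicalKrullDim (PrimeSpectrum k) ≤ 0
      rw [PrimeSpectrum.topologicalKrullDim_eq_ringKrullDim, ringKrullDim_eq_zero_of_field]
    haveI : Ring.KrullDimLE 0 ((Spec (CommRingCat.of k)).presheaf.stalk (q x)) :=
      Ring.krullDimLE_iff.2 this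
    exact Ring.KrullDimLE.isField_of_isReduced
  refine ⟨Flat.stalkMap q x, ?_⟩
  haveI : LocCoh.IsCohenMacaulayLocalRing (Z.presheaf.stalk x) :=
    isCohenMacaulayLocalRing_of_reduced (Groth.Agent.H97.DimOneSetup.ringKrullDim_stalk_le_one hdim x)
  have hbot : (maximalIdeal ((Spec (CommRingCat.of k)).presheaf.stalk (q x))).map (q.stalkMap x).hom = ⊥ := by
    rw [IsLocalRing.isField_iff_maximalIdeal_eq.1 hF, Ideal.map_bot]
  exact Groth.Agent.Lib.Excellent.Transport.isCohenMacaulayLocalRing_of_ringEquiv
    ((Ideal.quotEquivOfEq hbot).trans (RingEquiv.quotientBot _)).symm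

variable {S : Scheme.{u}} {n : ℕ}

/-- A family of curves with reduced geometric fibres is Cohen–Macaulay. -/
theorem locP_cm {B : CurvSt.SpFamObj S n} (hB : CurvSt.IsCurveFam B)
    (H : CurvSt.GeomFib (fun _ _ _ X' _ _ => IsReduced X') B) :
    LocP (fun _ _ g => ∀ x, MoreMor.IsCMAt g x) B.f := by
  obtain ⟨U, a, h, ha, has, w⟩ := Groth.Agent.Lib.StCurv.exists_chart hB
  refine (Groth.Agent.Lib.StCurv.locP_iff_chart Groth.Agent.Lib.StCurv.cmCond_good
    Groth.Agent.Lib.StCurv.cmCond_tgtInv (fun _ _ => Iff.rfl) hB ha has w).2 fun u => ?_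
  have ht := Groth.Agent.Lib.StCurv.tame_chart hB ha w
  let Ω : Type u := AlgebraicClosure (B.base.left.residueField (h.left u))
  let τ : Spec (CommRingCat.of Ω) ⟶ B.base.left :=
    Spec.map (CommRingCat.ofHom (algebraMap (B.base.left.residueField (h.left u)) Ω)) ≫
      B.base.left.fromSpecResidueField (h.left u)
  obtain ⟨X', q, i, hP⟩ := exists_fib hB τ
  haveI : IsReduced X' := H Ω τ X' q i hP
  obtain ⟨c, hc, -, -⟩ := exists_fib_cover ha has w hP
  haveI : IsReduced (pullback h.left τ) := Groth.Agent.Lib.Flat55.ComponentModel.isReduced_of_etale c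
  obtain ⟨z, hz, -⟩ := Scheme.Pullback.exists_preimage_pullback (f := h.left) (g := τ) u
    (IsLocalRing.closedPoint Ω) (by
      show h.left u = B.base.left.fromSpecResidueField (h.left u) _
      exact (Scheme.fromSpecResidueField_apply _ _).symm)
  have sq := IsPullback.of_hasPullback h.left τ
  haveI : LocallyOfFinitePresentation h.left := ht.2
  haveI : Flat h.left := ht.1
  haveI : Flat (pullback.snd h.left τ) := MorphismProperty.pullback_snd _ _ ht.1
  haveI : LocallyOfFiniteType (pullback.snd h.left τ) :=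
    MorphismProperty.pullback_snd _ _ (inferInstance : LocallyOfFiniteType h.left)
  rw [← hz]
  refine (Groth.Agent.Lib.StCurv.cmCond_good.bc sq ht z).1
    (isCMAt_of_reduced (pullback.snd h.left τ) ?_ z)
  refine topologicalKrullDim_le_one_of_fibreDimAt (k := Ω) (pullback.snd h.left τ) fun v => ?_
  rw [Groth.Agent.H2.FibreDimPullback.fibreDimAt_of_isPullback sq v]
  exact (Groth.Agent.Lib.AlgSpDecent.RelDim.hasAtMor_fibreDim_pred hB.1 (IsAlgSpace.yon_obj _)
    hB.2.2.1.2.1.1 (· ≤ ((1 : ℕ) : WithBot ℕ∞)) ha (AlgSp.repWith_id _ _)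
    (by rw [Category.comp_id, w]) _).1 (hB.2.2.2.2 _)

end Groth.Agent.H8.CurveSpace
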