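import Groth.Agent.H8.CurveSpace.Graph
import Groth.Agent.H41.AffineDimOne
import Groth.Agent.H97.DimOneSetup
import Groth.Agent.Lib.AlgSpChev.Geometry
import Groth.Agent.Lib.AlgSpDecent.OpenScheme
import Groth.Agent.Lib.AlgSpVal.DvrMain
import Groth.Agent.Lib.AlgStack.WellNigh

/-!
# Proper spaces of dimension at most one over a field are schemes
-/

set_option autoImplicit false
set_option linter.style.haveILetI false
set_option backward.isDefEq.respectTransparency false
set_option backward.isDefEq.respectTransparency.types false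

universe u

open CategoryTheory CategoryTheory.Limits AlgebraicGeometry
open Groth.Agent.Lib.AlgSpace Groth.Agent.Lib.AlgSpMor

namespace Groth.Agent.H8.CurveSpace

open AlgSp (Sp yon RepWith IsAlgSpace IsSeparatedMor IsProperMor LocP Points)
open AlgSp

variable {S : Scheme.{u}}

/-- A point of a Noetherian space finitely covered by a separated curve has an affine scheme as a
neighbourhood. -/
theorem exists_affine_nhd {A : Sp S} (hA : IsAlgSpace A) (hN : IsLocNoethSp A) {Y : Over S}
    [Y.left.IsSeparated] [IsNoetherian Y.left] (hdim : topologicalKrullDim Y.left ≤ 1)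
    (q : (yon S).obj Y ⟶ A) (hq : RepWith @IsFinite q) (hqs : Function.Surjective (Points.map q))
    (x : Points A) :
    ∃ (T : Over S) (l : (yon S).obj T ⟶ A), RepWith @IsOpenImmersion l ∧
      x ∈ Set.range (Points.map l) := by
  classical
  obtain ⟨U, a, ha, has⟩ := hA.atlas
  obtain ⟨v, rfl⟩ := Groth.Agent.Lib.AlgSpDecent.Core.surjective_ofPt has x
  obtain ⟨P, p, c, sqP, hp⟩ := repWith_exists hq a
  haveI : IsFinite p.left := hp
  let F : Set Y.left := {y | Points.ofPt q y = Points.ofPt a v}
  have hFfin : F.Finite := by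
    refine ((p.left.finite_preimage_singleton v).image
      fun z => (Points.schemeHomeo Y).symm (Points.map c (Points.ofScheme P z))).subset ?_
    intro y hy
    obtain ⟨z, hz₁, hz₂⟩ := exists_of_isPullback sqP (Points.ofScheme Y y) (Points.ofScheme U v) (by
      rw [← Points.ofPt_eq_map_ofScheme, ← Points.ofPt_eq_map_ofScheme]; exact hy)
    obtain ⟨z, rfl⟩ := (Points.schemeHomeo P).surjective z
    refine ⟨z, (Points.schemeHomeo U).injective ?_, (Homeomorph.symm_apply_eq _).2 hz₁⟩
    exact (Points.map_yon_map_apply p z).symm.trans hz₂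
  haveI : CompactSpace Y.left := inferInstance
  obtain ⟨V, hV, hFV⟩ := Groth.Agent.H97.FiniteAffine.exists_affineOpen (X := Y.left)
    TopologicalSpace.NoetherianSpace.finite_irreducibleComponents hFfin.toFinset
    (fun y _ => Groth.Agent.H97.DimOneSetup.ringKrullDim_stalk_le_one hdim y)
  have hqP : IsProperMor q := Groth.Agent.Lib.AlgStack.WellNigh.isProperMor_of_repWith_isFinite hA hq
  have hD : IsClosed (Points.map q '' (Points.schemeHomeo Y '' (V : Set Y.left)ᶜ)) :=
    Proper.isClosedMap_of_isUnivClosedMor hA hqP.2.2 _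
      ((Points.schemeHomeo Y).isClosedMap _ V.2.isClosed_compl)
  obtain ⟨W, j, hW, hj, hjr⟩ := exists_open_subspace hA hD.isOpen_compl
  have hxW : Points.ofPt a v ∈ Set.range (Points.map j) := by
    rw [hjr]
    rintro ⟨_, ⟨y, hy, rfl⟩, he⟩
    refine hy (hFV y (hFfin.mem_toFinset.2 ?_))
    show Points.ofPt q y = _
    rw [Points.ofPt_eq_map_ofScheme]
    exact he
  -- the preimage
  obtain ⟨Q, i, d, sqQ, hi⟩ := repWith_exists hj q
  haveI : IsOpenImmersion i.left := hi
  have hQV : Set.range i.left ⊆ (V : Set Y.left) := by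
    rintro _ ⟨z, rfl⟩
    by_contra hV'
    have h : Points.map q (Points.schemeHomeo Y (i.left z)) ∈ Set.range (Points.map j) := by
      rw [← Points.map_yon_map_apply, ← Points.map_comp, ← sqQ.w, Points.map_comp]
      exact ⟨_, rfl⟩
    rw [hjr] at h
    exact h ⟨_, ⟨_, hV', rfl⟩, rfl⟩
  haveI : IsAffine Q.left := by
    let O := i.left.opensRange
    haveI : QuasiCompact O.ι := inferInstance
    haveI : IsAffineHom O.ι := Groth.Agent.H41.AffineDimOne.isAffineHom_ι (fun y =>
      ⟨inferInstance, Groth.Agent.H97.DimOneSetup.ringKrullDim_stalk_le_one hdim y⟩) O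
    have hO : IsAffineOpen (O.ι ⁻¹ᵁ V) := hV.preimage O.ι
    have htop : O.ι ⁻¹ᵁ V = ⊤ := TopologicalSpace.Opens.ext (Set.eq_univ_iff_forall.2 fun z =>
      hQV (by exact z.2))
    rw [htop] at hO
    haveI : IsAffine _ := hO
    haveI : IsAffine O := IsAffine.of_isIso (O.toScheme.topIso).inv
    haveI : IsAffine i.left.opensRange := ‹IsAffine O›
    exact IsAffine.of_isIso i.left.isoOpensRange.hom
  have hd : RepWith @IsFinite d := repWith_baseChange sqQ.flip hq
  have hds : Function.Surjective (Points.map d) := QC.surjective_of_isPullback' sqQ hqs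
  have hWc : CompactSpace (Points W) := by
    haveI : CompactSpace (Points ((yon S).obj Q)) := QC.compactSpace_yon
    exact QC.compactSpace_of_surjective hds
  have hWN : IsLocNoethSp W := Groth.Agent.Lib.AlgSpVal.isLocNoethSp_of_locP hW hA
    (LocP.locP_of_repWith Groth.Agent.Lib.SourceDescent.Scheme.locallyOfFiniteType
      (repWith_mono hj fun _ _ g (_ : IsOpenImmersion g) ↦ (inferInstance : LocallyOfFiniteType g))) hN
  obtain ⟨T, -, ⟨ε⟩⟩ := Groth.Agent.Lib.AlgSpChev.exists_iso_affine_of_finite_surjective hW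
    ((QC.isQuasiCompactSp_iff hW).2 hWc) hWN (T := Q) inferInstance d
    (AffineDescent.isFiniteMor_iff.2 hd) hds
  refine ⟨T, ε.hom ≫ j, (repWith_iso_comp_iff _ ε.hom j).2 hj, ?_⟩
  obtain ⟨w, hw⟩ := hxW
  exact ⟨Points.map ε.inv w, by rw [← Points.map_comp, Iso.inv_hom_id_assoc, hw]⟩

/-- A proper algebraic space of dimension at most one over a field is a scheme. -/
theorem exists_iso_yon {k : Type u} [Field k] {t : Spec (CommRingCat.of k) ⟶ S} {A : Sp S}
    (hA : IsAlgSpace A) {f : A ⟶ (yon S).obj (Over.mk t)} (hf : IsProperMor f)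
    (hdim : ∀ (U : Over S) (a : (yon S).obj U ⟶ A), RepWith @Etale a → topologicalKrullDim U.left ≤ 1) :
    ∃ W : Over S, Nonempty ((yon S).obj W ≅ A) := by
  obtain ⟨Y, q, fY, hq, hqs, -, hsep, hft, hc, hdimY⟩ := exists_finite_cover hA hf hdim
  haveI : IsSeparated fY.left := hsep
  haveI : LocallyOfFiniteType fY.left := hft
  haveI : IsLocallyNoetherian (Over.mk t).left :=
    inferInstanceAs (IsLocallyNoetherian (Spec (CommRingCat.of k)))
  haveI : (Over.mk t).left.IsSeparated := inferInstanceAs (Spec (CommRingCat.of k)).IsSeparated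
  haveI : IsLocallyNoetherian Y.left := LocallyOfFiniteType.isLocallyNoetherian fY.left
  haveI : IsNoetherian Y.left := {}
  haveI : Y.left.IsSeparated := ⟨by rw [← terminal.comp_from fY.left]; infer_instance⟩
  have hN : IsLocNoethSp A := by
    obtain ⟨U, a, ha, has⟩ := hA.atlas
    obtain ⟨m, hm⟩ := (yon S).map_surjective (a ≫ f)
    haveI : LocallyOfFiniteType m.left :=
      hf.2.1.1 a (𝟙 _) m ha (AlgSp.repWith_id _ _) (by rw [Category.comp_id, hm])
    exact ⟨U, a, ha, has, LocallyOfFiniteType.isLocallyNoetherian m.left⟩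
  choose T l hl hx using fun y : Y.left =>
    exists_affine_nhd hA hN hdimY q hq hqs (Points.ofPt q y)
  obtain ⟨G, m, hm, hr⟩ := Groth.Agent.Lib.AlgSpDecent.Glue.exists_union hl hA
  haveI : IsIso m := Groth.Agent.Lib.AlgSpDecent.OpenScheme.isIso_of_surjective hm
    (Set.range_eq_univ.1 (by
      rw [hr]
      refine Set.eq_univ_of_forall fun x => ?_
      obtain ⟨z, rfl⟩ := hqs x
      obtain ⟨y, rfl⟩ := (Points.schemeHomeo Y).surjective z
      refine Set.mem_iUnion.2 ⟨y, ?_⟩
      have h := hx y
      rwa [Points.ofPt_eq_map_ofScheme] at h))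
  exact ⟨G, ⟨asIso m⟩⟩

end Groth.Agent.H8.CurveSpace
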